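import Cfsg.Agent.H834.RC.Her4

/-!
# S3510, row D: `dead_her` (helper834)
-/

set_option autoImplicit false

namespace Cfsg.Agent.H834.RC

open MulAction Module Cfsg.Agent.H106.RC Cfsg.Agent.H520.RC Cfsg.Agent.H380.RC Cfsg.Agent.H67.RC Matrix

variable {F : Type} {V : Type} [Field F] [Finite F] [AddCommGroup V] [Module F V] [FiniteDimensional F V]
  {B : LinearMap.BilinForm F V} {G : Type} [Group G] [Finite G] {Ω : Type} [Finite Ω] [Nonempty Ω] [MulAction G Ω]
  {N : Subgroup G} {ρ : ↥(Sp B) →* G} {ι : Type} [Finite ι] {x : ι → G} {r : ι → ℕ} {M : ι → SS B}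

/-- the case `|F| = 3` : the other members have order two -/
theorem order_two (E : SpEnv Ω N ρ) {θ : Module.End F V} {δ : F} (h : Hm B θ δ) (h3 : Nat.card F = 3) {i : ι}
    (hM : Lf ρ (x i) (M i)) (hne : x i ≠ 1) (hr : (r i).Prime) (hx : x i ^ r i = 1) {a b : F}
    (hab : ∀ v, M i v = a • v + b • θ v) : r i = 2 ∧ a = 0 := by
  have := Fintype.ofFinite F
  have hdim := E.dim
  have : Nontrivial V := Module.nontrivial_of_finrank_pos (R := F) (by omega)
  obtain ⟨w, hw⟩ := exists_ne (0 : V)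
  have hb := b_ne E hM hne hab
  have hcard : Fintype.card F = 3 := by rw [← Nat.card_eq_fintype_card, h3]
  have hsq : ∀ c : F, c ≠ 0 → c * c = 1 := by
    intro c hc
    have h4 := FiniteField.pow_card_sub_one_eq_one c hc
    rw [hcard] at h4
    rw [← h4]; ring
  have hδ : δ = -1 := by
    have h4 := hsq δ h.d0
    rcases mul_self_eq_one_iff.1 h4 with h5 | h5
    · exact absurd ⟨1, by rw [h5]; ring⟩ h.nsq
    · exact h5
  have hM2 : ∀ v, M i (M i v) = (a * a + δ * (b * b)) • v + (2 * a * b) • θ v := by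
    intro v
    rw [hab, hab, map_add, map_smul, map_smul, h.sq]
    module
  have hM4 : ∀ v, M i (M i (M i (M i v))) =
      ((a * a + δ * (b * b)) * (a * a + δ * (b * b)) + δ * ((2 * a * b) * (2 * a * b))) • v := by
    intro v
    have hAC : (a * a + δ * (b * b)) * (2 * a * b) = 0 := by
      rcases eq_or_ne a 0 with ha | ha
      · rw [ha]; ring
      · rw [hsq a ha, hsq b hb, hδ]; ring
    rw [hM2 (M i (M i v)), hM2 v, map_add, map_smul, map_smul, h.sq]
    have h5 : ((a * a + δ * (b * b)) * (2 * a * b)) • θ v = 0 := by rw [hAC, zero_smul]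
    have h6 : (a * a + δ * (b * b)) • ((a * a + δ * (b * b)) • v + (2 * a * b) • θ v) +
        (2 * a * b) • ((a * a + δ * (b * b)) • θ v + (2 * a * b) • δ • v) =
        ((a * a + δ * (b * b)) * (a * a + δ * (b * b)) + δ * ((2 * a * b) * (2 * a * b))) • v +
        (2 : F) • (((a * a + δ * (b * b)) * (2 * a * b)) • θ v) := by module
    rw [h6, h5, smul_zero, add_zero]
  have hx4 : x i ^ 4 = 1 := by
    rw [E.eq_one_iff (hM.pow 4)]
    refine ⟨(a * a + δ * (b * b)) * (a * a + δ * (b * b)) + δ * ((2 * a * b) * (2 * a * b)), ?_, fun v => ?_⟩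
    · intro h0
      apply hw
      have h5 := hM4 w
      rw [h0, zero_smul] at h5
      have h6 : ∀ v, M i v = 0 → v = 0 := fun v hv => (M i).injective (by rw [hv, SS.map_zero])
      exact h6 _ (h6 _ (h6 _ (h6 _ h5)))
    · rw [SS.pow_apply]
      exact hM4 v
  have hr2 : r i = 2 := by
    have := Fact.mk hr
    have h5 : orderOf (x i) = r i := orderOf_eq_prime hx hne
    have h6 : r i ∣ 4 := by rw [← h5]; exact orderOf_dvd_of_pow_eq_one hx4
    have h7 : r i ∣ 2 := hr.dvd_of_dvd_pow (n := 2) (by norm_num; exact h6)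
    exact (Nat.prime_dvd_prime_iff_eq hr Nat.prime_two).1 h7
  refine ⟨hr2, ?_⟩
  obtain ⟨c, -, hc⟩ := E.pow_scal hM (hr2 ▸ hx)
  have h5 := hc w
  have h6 : M i (M i w) = c • w := h5
  rw [hM2] at h6
  have h7 : (a * a + δ * (b * b) - c) • w + (2 * a * b) • θ w = 0 := by
    rw [sub_smul, sub_add_eq_add_sub, h6, sub_self]
  have h8 := (h.kk_zero hw h7).2
  have h9 : a * (2 * b) = 0 := by linear_combination h8
  exact (mul_eq_zero.1 h9).resolve_right (mul_ne_zero h.two hb)

/-- **(HER)** -/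
theorem dead_her (E : SpEnv Ω N ρ) (h2 : (2 : F) ≠ 0) (hx : PF x r) (hcov : Cov Ω x)
    (hM : ∀ i, Lf ρ (x i) (M i)) (hl : ∀ i, (M i).IsLin) (θ : Module.End F V) {δ : F} (hδ : ¬ IsSquare δ)
    (hsq : ∀ v, θ (θ v) = δ • v) (hθs : ∀ u v, B (θ u) v = - B u (θ v)) (hcm : ∀ i v, M i (θ v) = θ (M i v))
    (hs : ∀ i, (r i).Coprime (Nat.card F) → ∃ a b : F, ∀ v, M i v = a • v + b • θ v)
    (hex : ¬ (Nat.card F = 3 ∧ finrank F V = 4)) : False := by
  classical
  have h : Hm B θ δ := ⟨E.form, h2, hδ, hsq, hθs⟩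
  have := Fintype.ofFinite F
  obtain ⟨p, hp⟩ := CharP.exists F
  have hpp : Fact p.Prime := ⟨CharP.char_is_prime F p⟩
  obtain ⟨⟨k, hk0⟩, -, hk'⟩ := FiniteField.card F p
  have hk : Nat.card F = p ^ k := by rw [Nat.card_eq_fintype_card]; exact hk'
  have hcop : ∀ i, r i ≠ p → (r i).Coprime (Nat.card F) := fun i hi => by
    rw [hk]; exact ((Nat.coprime_primes (hx.prime i) hpp.out).2 hi).pow_right k
  have hcop' : ∀ i, (r i).Coprime (Nat.card F) → (r i).Coprime p := fun i hi => by
    rw [hk] at hi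
    exact Nat.Coprime.coprime_dvd_right (dvd_pow_self p hk0.ne') hi
  have hK1 : ∀ i, (r i).Coprime (Nat.card F) → ∀ {e : V}, B e (θ e) = 0 → ∀ a b : F,
      ∃ a' b' : F, x i * ρ (h.us e a b) * (x i)⁻¹ = ρ (h.us e a' b') := by
    intro i hi e he a b
    obtain ⟨y, z, hyz⟩ := hs i hi
    have hz := b_ne E (hM i) (hx.ne i) hyz
    obtain ⟨a', b', h3⟩ := h.cj_us_ex he (h.norm_ne (Or.inr hz)) a b
    exact ⟨a', b', by rw [conj_K (hM i) h hz hyz, h3]⟩
  have hK2 : ∀ i, (r i).Coprime (Nat.card F) → ∀ {e : V}, B e (θ e) = 0 →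
      ∃ a b : F, x i * ρ (h.us e a b) * (x i)⁻¹ = ρ (h.us e (a - 1) b) := by
    intro i hi e he
    obtain ⟨y, z, hyz⟩ := hs i hi
    have hz := b_ne E (hM i) (hx.ne i) hyz
    obtain ⟨a, b, h3⟩ := h.cj_us_one he (h.norm_ne (Or.inr hz)) hz
    exact ⟨a, b, by rw [conj_K (hM i) h hz hyz, h3]⟩
  have hKs : ∀ i, (r i).Coprime (Nat.card F) → ∀ s ∈ Hm.CT B θ, ρ s * x i = x i * ρ s := by
    intro i hi s hs'
    obtain ⟨y, z, hyz⟩ := hs i hi
    have hz := b_ne E (hM i) (hx.ne i) hyz
    have h3 := conj_K (hM i) h hz hyz s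
    rw [h.cj_ks _ hs'] at h3
    exact (mul_inv_eq_iff_eq_mul.1 h3).symm
  by_cases hall : ∀ i, r i ≠ p
  · obtain ⟨e, he0, he⟩ := h.exists_iso E.dim
    exact star_rule E h he0 he (fun i => (hx.prime i).pos) hx.pow hx.comm hcov
      (fun i => hcop' i (hcop i (hall i))) (fun i => hK1 i (hcop i (hall i)) he) (fun i => hK2 i (hcop i (hall i)) he)
  push Not at hall
  obtain ⟨i0, hi0⟩ := hall
  have hjc : ∀ j, j ≠ i0 → (r j).Coprime (Nat.card F) := fun j hj' =>
    hcop j fun h4 => hj' (hx.inj (h4.trans hi0.symm))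
  obtain ⟨t, hxt, htp, htC⟩ := exists_unip (θ := θ) E (hM i0) (hl i0) (by rw [← hi0]; exact hx.pow i0) (hcm i0)
  have ht1 : t ≠ 1 := by
    rintro rfl
    exact hx.ne i0 (by rw [hxt, map_one])
  have hR : ∀ s ∈ Hm.CT B θ, ∀ y ∈ Rep ρ x i0, s * y * s⁻¹ ∈ Rep ρ x i0 := fun s hs' y hy =>
    rep_conj (fun j hj' => hKs j (hjc j hj') s hs') hy
  have htR : t ∈ Rep ρ x i0 := by
    show ρ t ∈ Subgroup.closure _
    exact Subgroup.subset_closure ⟨1, fun j _ => by rw [one_mul, mul_one], by rw [← hxt]; group⟩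
  obtain ⟨e, f, hef, c, hc, hmem⟩ := h.exists_pair E.dim hR htR htC ht1 htp
  have he0 : e ≠ 0 := by
    rintro rfl
    have := hef.ef
    rw [map_zero, LinearMap.zero_apply] at this
    exact zero_ne_one this
  let Nn : Subgroup (SpecialLinearGroup (Fin 2) F) := (Rep ρ x i0).comap (hef.J h)
  have hNn : Nn.Normal := ⟨fun g hg k => by
    show hef.J h (k * g * k⁻¹) ∈ Rep ρ x i0
    rw [map_mul, map_mul, map_inv]
    exact hR _ (hef.J_mem h k) _ hg⟩
  have hg0 : up (-1) * lo c ∈ Nn := by
    show hef.J h _ ∈ Rep ρ x i0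
    rw [map_mul, hef.J_up, hef.J_lo, neg_neg]
    exact hmem
  have hcovy : ∀ g ∈ Nn, Cov Ω (Function.update x i0 (ρ (hef.J h g))) := fun g hg => hcov.mv i0 hg
  by_cases hq : 3 < Fintype.card F
  · -- `q > 3`
    have hNt : Nn = ⊤ := by
      rcases sl_normal hq Nn hNn with h3 | h3
      · exact h3
      · exfalso
        have h4 := Subgroup.mem_center_iff.1 (h3 hg0) (lo 1)
        have h5 := congrArg (fun A : SpecialLinearGroup (Fin 2) F => (A : Matrix (Fin 2) (Fin 2) F) 0 0) h4
        have h6 : (!![1, 0; 1, 1] * (!![1, -1; 0, 1] * !![1, 0; c, 1]) : Matrix (Fin 2) (Fin 2) F) 0 0 =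
          ((!![1, -1; 0, 1] * !![1, 0; c, 1]) * !![1, 0; 1, 1] : Matrix (Fin 2) (Fin 2) F) 0 0 := h5
        simp only [Matrix.mul_fin_two] at h6
        norm_num at h6
    obtain ⟨b, hb⟩ : ∃ b : F, b ∉ ({0, 1, -1} : Finset F) := by
      by_contra hcon
      push Not at hcon
      have h3 : Fintype.card F ≤ ({0, 1, -1} : Finset F).card := by
        rw [← Finset.card_univ]
        exact Finset.card_le_card fun z _ => hcon z
      have h4 := Finset.card_le_three (a := (0 : F)) (b := 1) (c := -1)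
      omega
    simp only [Finset.mem_insert, Finset.mem_singleton, not_or] at hb
    obtain ⟨hb0, hb1, hb2⟩ := hb
    have hbb : b * b ≠ 1 := fun h3 => by
      rcases mul_self_eq_one_iff.1 h3 with h4 | h4
      · exact hb1 h4
      · exact hb2 h4
    have hcovy' := hcovy (dg b hb0) (by rw [hNt]; exact Subgroup.mem_top _)
    have hyC := hef.J_mem h (dg b hb0)
    have hye := hef.J_dg h hb0
    have hyp : (ρ (hef.J h (dg b hb0))) ^ (Fintype.card F - 1) = 1 := by
      rw [← map_pow, ← map_pow, dg_pow, dg_congr _ one_ne_zero (FiniteField.pow_card_sub_one_eq_one b hb0), dg_one,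
        map_one, map_one]
    generalize hef.J h (dg b hb0) = y at hcovy' hyC hye hyp
    refine star_rule (x := Function.update x i0 (ρ y)) (n := Function.update r i0 (Fintype.card F - 1)) E h he0 hef.ee
      ?_ ?_ ?_ hcovy' ?_ ?_ ?_
    · intro i
      by_cases hi : i = i0
      · subst hi; rw [Function.update_self]; omega
      · rw [Function.update_of_ne hi]; exact (hx.prime i).pos
    · intro i
      by_cases hi : i = i0
      · subst hi; rw [Function.update_self, Function.update_self]; exact hyp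
      · rw [Function.update_of_ne hi, Function.update_of_ne hi]; exact hx.pow i
    · intro i j
      by_cases hi : i = i0
      · by_cases hj' : j = i0
        · rw [hi, hj']
        · rw [hi, Function.update_self, Function.update_of_ne hj']
          exact hKs j (hjc j hj') y hyC
      · by_cases hj' : j = i0
        · rw [hj', Function.update_self, Function.update_of_ne hi]
          exact (hKs i (hjc i hi) y hyC).symm
        · rw [Function.update_of_ne hi, Function.update_of_ne hj']
          exact hx.comm i j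
    · intro i
      by_cases hi : i = i0
      · subst hi
        rw [Function.update_self, Nat.coprime_comm, hpp.out.coprime_iff_not_dvd, hk']
        intro h3
        have h4 : p ∣ p ^ k := dvd_pow_self p hk0.ne'
        have h5 : p ∣ p ^ k - (p ^ k - 1) := Nat.dvd_sub h4 h3
        have h6 : p ^ k - (p ^ k - 1) = 1 := by
          have : 0 < p ^ k := pow_pos hpp.out.pos k
          omega
        rw [h6] at h5
        exact hpp.out.one_lt.ne' (Nat.dvd_one.1 h5)
      · rw [Function.update_of_ne hi]; exact hcop' i (hjc i hi)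
    · intro i a a'
      by_cases hi : i = i0
      · subst hi
        rw [Function.update_self]
        exact ⟨_, _, by rw [← map_inv, ← map_mul, ← map_mul, h.conj_us hef.ee hyC hye]⟩
      · rw [Function.update_of_ne hi]; exact hK1 i (hjc i hi) hef.ee a a'
    · intro i
      by_cases hi : i = i0
      · subst hi
        rw [Function.update_self]
        refine ⟨(1 - b * b)⁻¹, 0, ?_⟩
        rw [← map_inv, ← map_mul, ← map_mul, h.conj_us hef.ee hyC hye]
        have h3 : (1 - b * b) ≠ 0 := sub_ne_zero.2 fun h4 => hbb h4.symm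
        have h4 : b * b * (1 - b * b)⁻¹ = (1 - b * b)⁻¹ - 1 := by
          rw [eq_sub_iff_add_eq, ← sub_eq_zero]
          have h5 : (1 - b * b) * (1 - b * b)⁻¹ = 1 := mul_inv_cancel₀ h3
          linear_combination -h5
        rw [h4, mul_zero]
      · rw [Function.update_of_ne hi]; exact hK2 i (hjc i hi) hef.ee
  · -- `q = 3`
    have hcard : Fintype.card F = 3 := by
      have h3 : Fintype.card F ≠ 2 := by
        intro h4
        have h5 : (2 : F) = 0 := by
          have h6 := FiniteField.cast_card_eq_zero F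
          rw [h4] at h6
          exact_mod_cast h6
        exact h2 h5
      have h4 : 1 < Fintype.card F := Fintype.one_lt_card
      omega
    have hcard' : Nat.card F = 3 := by rw [Nat.card_eq_fintype_card, hcard]
    have h3 : (3 : F) = 0 := by
      have h6 := FiniteField.cast_card_eq_zero F
      rw [hcard] at h6
      exact_mod_cast h6
    have hn1 : (-1 : F) ≠ 0 := neg_ne_zero.2 one_ne_zero
    have hcc : c = 1 ∨ c = -1 := by
      have h4 := FiniteField.pow_card_sub_one_eq_one c hc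
      rw [hcard] at h4
      exact mul_self_eq_one_iff.1 (by rw [← h4]; ring)
    have hz := three_mem h3 hcc hn1 hg0
    have hcovz := hcovy _ hz
    have hz1 : ρ (hef.J h (dg (-1) hn1)) ≠ 1 := J_neg_ne E h hef (fun h4 => hex ⟨hcard', h4⟩) hn1
    have hall : ∀ j, j ≠ i0 → r j = 2 ∧ ∃ b : F, b ≠ 0 ∧ ∀ v, M j v = b • θ v := by
      intro j hj'
      obtain ⟨a, b, hab⟩ := hs j (hjc j hj')
      obtain ⟨h5, h6⟩ := order_two E h hcard' (hM j) (hx.ne j) (hx.prime j) (hx.pow j) hab
      refine ⟨h5, b, b_ne E (hM j) (hx.ne j) hab, fun v => ?_⟩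
      rw [hab, h6, zero_smul, zero_add]
    by_cases hex1 : ∃ j, j ≠ i0
    · obtain ⟨j, hj'⟩ := hex1
      obtain ⟨hrj, b, hb, hMb⟩ := hall j hj'
      have hcov2 : ∀ ω : Ω, ρ (hef.J h (dg (-1) hn1)) • ω = ω ∨ x j • ω = ω := by
        intro ω
        obtain ⟨i, hi⟩ := hcovz ω
        by_cases hi0' : i = i0
        · left
          rwa [hi0', Function.update_self] at hi
        · right
          rw [Function.update_of_ne hi0'] at hi
          have : i = j := hx.inj ((hall i hi0').1.trans hrj.symm)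
          rwa [this] at hi
      -- the element acting as `-1` on `⟨θ e, θ f⟩`
      set u1 : Sp B := hj h.form (hef.n2 h) (dg (-1) hn1) with hu1
      have hdd : dg (-1 : F) hn1 * dg (-1) hn1 = 1 := by
        rw [dg_mul hn1 hn1 (by simp), dg_congr _ one_ne_zero (by ring : (-1 : F) * -1 = 1), dg_one]
      have hcj : SS.cj (M j) u1 = hj h.form hef.n1 (dg (-1) hn1) := by
        have hl' : B (M j (θ e)) (M j (θ f)) ≠ 0 := by
          rw [(hl j).form]
          exact mul_ne_zero (M j).hl (hef.n2 h)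
        have hbd : b * δ ≠ 0 := mul_ne_zero hb h.d0
        have hl'' : B ((b * δ) • e) ((b * δ) • f) ≠ 0 := by
          rw [map_smul, map_smul, LinearMap.smul_apply, hef.ef, smul_eq_mul, smul_eq_mul, mul_one]
          exact mul_ne_zero hbd hbd
        rw [hu1, cj_hj h.form (M j) (hl j) (hef.n2 h) hl',
          hj_congr h.form hl' hl'' (by rw [hMb, h.sq, smul_smul]) (by rw [hMb, h.sq, smul_smul]) _]
        exact hj_smul h.form hef.n1 hbd hl'' _
      have hcomm := hef.comm h (dg (-1) hn1) (dg (-1) hn1)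
      have hu1u : u1 * u1 = 1 := by rw [hu1, ← map_mul, hdd, map_one]
      have hyu : ρ u1 * ρ (hef.J h (dg (-1) hn1)) = ρ (hef.J h (dg (-1) hn1)) * ρ u1 := by
        rw [← map_mul, ← map_mul, hef.J_def, ← hu1, mul_assoc, hu1u, ← mul_assoc, hu1, ← hcomm, ← hu1, mul_assoc,
          hu1u]
      refine not_cov_one E.env hcov2 (U := Subgroup.zpowers (ρ u1)) ?_ hz1 ?_
      · rintro _ ⟨m, rfl⟩
        exact (Commute.zpow_left hyu m).eq
      · have h5 : ρ (hef.J h (dg (-1) hn1)) = ρ u1 * x j * (ρ u1)⁻¹ * (x j)⁻¹ := by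
          have h6 : ρ u1 * x j * (ρ u1)⁻¹ * (x j)⁻¹ = ρ u1 * (x j * ρ u1 * (x j)⁻¹)⁻¹ := by group
          have h7 : (hj h.form hef.n1 (dg (-1) hn1))⁻¹ = hj h.form hef.n1 (dg (-1) hn1) := by
            rw [inv_eq_iff_mul_eq_one, ← map_mul, hdd, map_one]
          rw [h6, hM j u1, hcj, ← map_inv, ← map_mul, h7, hef.J_def, hu1, hcomm]
        rw [h5]
        exact mem_cmm (Subgroup.mem_zpowers _)
    · push Not at hex1
      refine E.env.not_all hz1 fun ω => ?_
      obtain ⟨i, hi⟩ := hcovz ω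
      rw [hex1 i, Function.update_self] at hi
      exact hi

end Cfsg.Agent.H834.RC
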