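import Cfsg.Agent.H520.RC.SpDefs
import Cfsg.Agent.TwoFusion.SLTwoFacts

/-!
# S3510, row D, (HER): the groups `SL₂(F)` in `Sp B` (helper834)

* `hj h hl : SL(2, F) →* Sp B` : acts on the hyperbolic plane `⟨e, f⟩` and trivially on its perp;
* `cj_hj` : conjugates; `hj_upper`, `hj_lower` : transvections;
* `sl_normal` : the proper normal subgroups of `SL₂(F)`, `|F| > 3`, are central.
-/

set_option autoImplicit false

namespace Cfsg.Agent.H834.RC

open MulAction Module Cfsg.Agent.H106.RC Cfsg.Agent.H520.RC Matrix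

universe u v

section

variable {F : Type u} {V : Type v} [Field F] [AddCommGroup V] [Module F V] {B : LinearMap.BilinForm F V}

/-- the action of a matrix on the plane `⟨e, f⟩` -/
def hs (B : LinearMap.BilinForm F V) (e f : V) (g : Matrix (Fin 2) (Fin 2) F) (v : V) : V :=
  v + ((g 0 0 - 1) * ((B e f)⁻¹ * B v f) + g 0 1 * ((B e f)⁻¹ * B e v)) • e +
    (g 1 0 * ((B e f)⁻¹ * B v f) + (g 1 1 - 1) * ((B e f)⁻¹ * B e v)) • f

theorem hs_def (e f : V) (g : Matrix (Fin 2) (Fin 2) F) (v : V) : hs B e f g v =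
    v + ((g 0 0 - 1) * ((B e f)⁻¹ * B v f) + g 0 1 * ((B e f)⁻¹ * B e v)) • e +
    (g 1 0 * ((B e f)⁻¹ * B v f) + (g 1 1 - 1) * ((B e f)⁻¹ * B e v)) • f := rfl

theorem hs_left (h : NAlt B) {e f : V} (hl : B e f ≠ 0) (g : Matrix (Fin 2) (Fin 2) F) (v : V) :
    (B e f)⁻¹ * B (hs B e f g v) f = g 0 0 * ((B e f)⁻¹ * B v f) + g 0 1 * ((B e f)⁻¹ * B e v) := by
  unfold hs
  simp only [map_add, LinearMap.add_apply, map_smul, LinearMap.smul_apply, smul_eq_mul, h.alt]
  field_simp
  ring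

theorem hs_right (h : NAlt B) {e f : V} (hl : B e f ≠ 0) (g : Matrix (Fin 2) (Fin 2) F) (v : V) :
    (B e f)⁻¹ * B e (hs B e f g v) = g 1 0 * ((B e f)⁻¹ * B v f) + g 1 1 * ((B e f)⁻¹ * B e v) := by
  unfold hs
  simp only [map_add, map_smul, smul_eq_mul, h.alt]
  field_simp
  ring

theorem hs_mul (h : NAlt B) {e f : V} (hl : B e f ≠ 0) (g k : Matrix (Fin 2) (Fin 2) F) (v : V) :
    hs B e f (g * k) v = hs B e f g (hs B e f k v) := by
  rw [hs_def e f g, hs_left h hl k v, hs_right h hl k v]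
  rw [hs_def e f k, hs_def e f (g * k)]
  rw [Matrix.mul_apply, Matrix.mul_apply, Matrix.mul_apply, Matrix.mul_apply, Fin.sum_univ_two, Fin.sum_univ_two,
    Fin.sum_univ_two, Fin.sum_univ_two]
  generalize (B e f)⁻¹ * B v f = p
  generalize (B e f)⁻¹ * B e v = q
  module

theorem hs_one (e f : V) (v : V) : hs B e f 1 v = v := by
  rw [hs_def]
  simp

theorem hs_add (e f : V) (g : Matrix (Fin 2) (Fin 2) F) (v w : V) : hs B e f g (v + w) = hs B e f g v + hs B e f g w := by
  rw [hs_def, hs_def, hs_def]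
  simp only [map_add, LinearMap.add_apply]
  module

theorem hs_smul (e f : V) (g : Matrix (Fin 2) (Fin 2) F) (c : F) (v : V) : hs B e f g (c • v) = c • hs B e f g v := by
  rw [hs_def, hs_def]
  simp only [map_smul, LinearMap.smul_apply, smul_eq_mul]
  module

theorem hs_form (h : NAlt B) {e f : V} (hl : B e f ≠ 0) (g : Matrix (Fin 2) (Fin 2) F) (hg : g.det = 1) (v w : V) :
    B (hs B e f g v) (hs B e f g w) = B v w := by
  rw [Matrix.det_fin_two] at hg
  have h1 : B v e = - B e v := h.swap v e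
  have h2 : B f w = - B w f := h.swap f w
  have h3 : B f e = - B e f := h.swap f e
  unfold hs
  simp only [map_add, LinearMap.add_apply, map_smul, LinearMap.smul_apply, smul_eq_mul, h.alt, h1, h2, h3]
  generalize hx : B e v = x at *
  generalize hy : B v f = y at *
  generalize hz : B e w = z at *
  generalize ht : B w f = t at *
  generalize B e f = l at *
  generalize B v w = m at *
  field_simp
  linear_combination (l * (y * z - x * t)) * hg

theorem coe_inv_mul (g : SpecialLinearGroup (Fin 2) F) :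
    ((g⁻¹ : SpecialLinearGroup (Fin 2) F) : Matrix (Fin 2) (Fin 2) F) * (g : Matrix (Fin 2) (Fin 2) F) = 1 :=
  congrArg Subtype.val (inv_mul_cancel g)

theorem coe_mul_inv (g : SpecialLinearGroup (Fin 2) F) :
    (g : Matrix (Fin 2) (Fin 2) F) * ((g⁻¹ : SpecialLinearGroup (Fin 2) F) : Matrix (Fin 2) (Fin 2) F) = 1 :=
  congrArg Subtype.val (mul_inv_cancel g)

/-- `SL₂(F)` on a hyperbolic plane -/
def hj (h : NAlt B) {e f : V} (hl : B e f ≠ 0) : SpecialLinearGroup (Fin 2) F →* Sp B where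
  toFun g := ⟨{ toFun := hs B e f (g : Matrix (Fin 2) (Fin 2) F)
                invFun := hs B e f ((g⁻¹ : SpecialLinearGroup (Fin 2) F) : Matrix (Fin 2) (Fin 2) F)
                map_add' := hs_add e f _
                map_smul' := hs_smul e f _
                left_inv := fun v => by
                  rw [← hs_mul h hl, coe_inv_mul, hs_one]
                right_inv := fun v => by
                  rw [← hs_mul h hl, coe_mul_inv, hs_one] },
    fun v w => hs_form h hl _ g.2 v w⟩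
  map_one' := Subtype.ext (LinearEquiv.ext fun v => hs_one e f v)
  map_mul' g k := Subtype.ext (LinearEquiv.ext fun v => by
    show hs B e f _ v = hs B e f _ (hs B e f _ v)
    rw [← hs_mul h hl]
    rfl)

theorem hj_apply (h : NAlt B) {e f : V} (hl : B e f ≠ 0) (g : SpecialLinearGroup (Fin 2) F) (v : V) :
    (hj h hl g).1 v = hs B e f (g : Matrix (Fin 2) (Fin 2) F) v := rfl

theorem cj_hj (h : NAlt B) (M : SS B) (hM : M.IsLin) {e f : V} (hl : B e f ≠ 0) (hl' : B (M e) (M f) ≠ 0)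
    (g : SpecialLinearGroup (Fin 2) F) : SS.cj M (hj h hl g) = hj h hl' g := by
  apply SS.cj_eq
  intro v
  rw [hj_apply, hj_apply, hs_def, hs_def, M.map_add, M.map_add, hM.map_smul, hM.map_smul, hM.form, hM.form, hM.form]
  have h1 : ∀ x : F, (M.l * B e f)⁻¹ * (M.l * x) = (B e f)⁻¹ * x := by
    intro x
    have := M.hl
    field_simp
  rw [h1, h1]

/-- scaling both vectors does not change `hj` -/
theorem hj_smul (h : NAlt B) {e f : V} (hl : B e f ≠ 0) {a : F} (ha : a ≠ 0) (hl' : B (a • e) (a • f) ≠ 0)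
    (g : SpecialLinearGroup (Fin 2) F) : hj h hl' g = hj h hl g := by
  have h1 := cj_hj h (SS.sc B a ha) rfl hl hl' g
  rw [SS.cj_of_scal ⟨a, ha, fun v => SS.sc_apply a ha v⟩, MulAut.one_apply] at h1
  exact h1.symm

/-- congruence -/
theorem hj_congr (h : NAlt B) {e f e' f' : V} (hl : B e f ≠ 0) (hl' : B e' f' ≠ 0) (he : e = e') (hf : f = f')
    (g : SpecialLinearGroup (Fin 2) F) : hj h hl g = hj h hl' g := by
  subst he hf; rfl

/-- upper unipotent -/
def up (c : F) : SpecialLinearGroup (Fin 2) F := ⟨!![1, c; 0, 1], by rw [Matrix.det_fin_two_of]; ring⟩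
/-- lower unipotent -/
def lo (c : F) : SpecialLinearGroup (Fin 2) F := ⟨!![1, 0; c, 1], by rw [Matrix.det_fin_two_of]; ring⟩
/-- diagonal -/
def dg (c : F) (hc : c ≠ 0) : SpecialLinearGroup (Fin 2) F := ⟨!![c, 0; 0, c⁻¹], by
  rw [Matrix.det_fin_two_of, mul_inv_cancel₀ hc]; ring⟩

theorem hj_upper (h : NAlt B) {e f : V} (hl : B e f ≠ 0) (c : F) :
    hj h hl (up c) = tv h e (-((B e f)⁻¹ * c)) := by
  apply Subtype.ext
  apply LinearEquiv.ext
  intro v
  rw [hj_apply, hs_def, tv_apply]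
  have h1 : B v e = - B e v := h.swap v e
  simp only [up, of_apply, cons_val', cons_val_zero, cons_val_one, cons_val_fin_one, h1]
  module

theorem hj_lower (h : NAlt B) {e f : V} (hl : B e f ≠ 0) (c : F) :
    hj h hl (lo c) = tv h f ((B e f)⁻¹ * c) := by
  apply Subtype.ext
  apply LinearEquiv.ext
  intro v
  rw [hj_apply, hs_def, tv_apply]
  simp only [lo, of_apply, cons_val', cons_val_zero, cons_val_one, cons_val_fin_one]
  module

theorem hj_dg (h : NAlt B) {e f : V} (hl : B e f ≠ 0) {c : F} (hc : c ≠ 0) (v : V) : (hj h hl (dg c hc)).1 v =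
    v + ((c - 1) * ((B e f)⁻¹ * B v f)) • e + ((c⁻¹ - 1) * ((B e f)⁻¹ * B e v)) • f := by
  rw [hj_apply, hs_def]
  simp only [dg, of_apply, cons_val', cons_val_zero, cons_val_one, cons_val_fin_one]
  module

theorem dg_one (hc : (1 : F) ≠ 0) : dg (1 : F) hc = 1 := by
  apply Subtype.ext
  show !![(1 : F), 0; 0, 1⁻¹] = 1
  rw [inv_one]
  exact Matrix.one_fin_two.symm

theorem dg_mul {c d : F} (hc : c ≠ 0) (hd : d ≠ 0) (hcd : c * d ≠ 0) : dg c hc * dg d hd = dg (c * d) hcd := by
  apply Subtype.ext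
  show !![c, 0; 0, c⁻¹] * !![d, 0; 0, d⁻¹] = !![c * d, 0; 0, (c * d)⁻¹]
  rw [Matrix.mul_fin_two, mul_inv c d]
  simp only [mul_zero, zero_mul, add_zero, zero_add]

theorem dg_congr {c d : F} (hc : c ≠ 0) (hd : d ≠ 0) (h : c = d) : dg c hc = dg d hd := by
  subst h; rfl

theorem dg_pow (c : F) (hc : c ≠ 0) (n : ℕ) : (dg c hc) ^ n = dg (c ^ n) (pow_ne_zero n hc) := by
  induction n with
  | zero => rw [pow_zero, dg_congr _ one_ne_zero (pow_zero c), dg_one]
  | succ n ih => rw [pow_succ, ih, dg_mul _ _ (mul_ne_zero (pow_ne_zero n hc) hc)]; exact dg_congr _ _ (pow_succ c n).symm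

end

section SL

open Subgroup
open scoped commutatorElement

variable {F : Type u} [Field F] [Fintype F]

/-- the proper normal subgroups of `SL₂(F)` are central -/
theorem sl_normal (h4 : 3 < Fintype.card F) (N : Subgroup (SpecialLinearGroup (Fin 2) F)) (hN : N.Normal) :
    N = ⊤ ∨ N ≤ center (SpecialLinearGroup (Fin 2) F) := by
  have hs : IsSimpleGroup (ProjectiveSpecialLinearGroup (Fin 2) F) :=
    Cfsg.Agent.TwoFusion.SLTwoFacts.isSimpleGroup_psl h4
  have hp := Cfsg.Agent.TwoFusion.SLTwoFacts.commutator_eq_top (F := F) h4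
  let q : SpecialLinearGroup (Fin 2) F →* ProjectiveSpecialLinearGroup (Fin 2) F :=
    QuotientGroup.mk' (center (SpecialLinearGroup (Fin 2) F))
  have hq : Function.Surjective q := QuotientGroup.mk'_surjective _
  rcases hs.eq_bot_or_eq_top_of_normal (N.map q) (hN.map q hq) with h | h
  · right
    intro x hx
    have h1 : q x ∈ N.map q := ⟨x, hx, rfl⟩
    rw [h, mem_bot] at h1
    exact (QuotientGroup.eq_one_iff x).1 h1
  · left
    have h1 : ∀ x : SpecialLinearGroup (Fin 2) F, ∃ n ∈ N, ∃ z ∈ center (SpecialLinearGroup (Fin 2) F),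
        x = n * z := by
      intro x
      have h2 : q x ∈ N.map q := by rw [h]; exact mem_top _
      obtain ⟨n, hn, hnx⟩ := h2
      refine ⟨n, hn, n⁻¹ * x, ?_, by group⟩
      exact QuotientGroup.eq.1 hnx
    rw [eq_top_iff, ← hp, commutator_def, Subgroup.commutator_le]
    intro a _ b _
    obtain ⟨n, hn, z, hz, rfl⟩ := h1 a
    obtain ⟨m, hm, w, hw, rfl⟩ := h1 b
    have hz' := Subgroup.mem_center_iff.1 hz
    have hw' := Subgroup.mem_center_iff.1 hw
    have h2 : ⁅n * z, m * w⁆ = n * m * n⁻¹ * m⁻¹ := by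
      rw [commutatorElement_def]
      calc n * z * (m * w) * (n * z)⁻¹ * (m * w)⁻¹
          = n * (z * m) * (w * z⁻¹) * n⁻¹ * w⁻¹ * m⁻¹ := by group
        _ = n * (m * z) * (z⁻¹ * w) * n⁻¹ * w⁻¹ * m⁻¹ := by rw [← hz' m, hw' z⁻¹]
        _ = n * m * (w * n⁻¹) * w⁻¹ * m⁻¹ := by group
        _ = n * m * (n⁻¹ * w) * w⁻¹ * m⁻¹ := by rw [← hw' n⁻¹]
        _ = n * m * n⁻¹ * m⁻¹ := by group
    rw [h2]
    exact mul_mem (mul_mem (mul_mem hn hm) (inv_mem hn)) (inv_mem hm)

end SL

end Cfsg.Agent.H834.RC
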