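import Cfsg.Agent.H834.RC.Her1

/-!
# S3510, row D, (HER): the geometry of `(V, B, θ)` (helper834)

`Hm B θ δ` : `θ² = δ` (not a square), `B (θ u) v = - B u (θ v)`: a hermitian space over `K = F[θ]`.

* `ks a b` : the similitude `a + b θ`;  `CT` : the isometries commuting with `θ`;
* `kt e c` : unitary transvections;  `us e a b` : the conjugate-linear part of `Sym²(K e)`;
* `J : SL(2, F) →* Sp B` for a hyperbolic pair.
-/

set_option autoImplicit false

namespace Cfsg.Agent.H834.RC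

open MulAction Module Cfsg.Agent.H106.RC Cfsg.Agent.H520.RC Matrix

universe u v

section

variable {F : Type u} {V : Type v} [Field F] [AddCommGroup V] [Module F V]

/-- a hermitian structure -/
structure Hm (B : LinearMap.BilinForm F V) (θ : Module.End F V) (δ : F) : Prop where
  form : NAlt B
  two : (2 : F) ≠ 0
  nsq : ¬ IsSquare δ
  sq : ∀ v, θ (θ v) = δ • v
  skew : ∀ u v, B (θ u) v = - B u (θ v)

variable {B : LinearMap.BilinForm F V} {θ : Module.End F V} {δ : F}

namespace Hm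

theorem d0 (h : Hm B θ δ) : δ ≠ 0 := by
  rintro rfl
  exact h.nsq ⟨0, by ring⟩

theorem tt (h : Hm B θ δ) (u v : V) : B (θ u) (θ v) = -(δ * B u v) := by
  rw [h.skew, h.sq, map_smul, smul_eq_mul]

theorem sym (h : Hm B θ δ) (u v : V) : B u (θ v) = B v (θ u) := by
  rw [h.form.swap u, h.skew, neg_neg]

theorem aniso (h : Hm B θ δ) {a b : F} (hab : a * a - δ * (b * b) = 0) : a = 0 ∧ b = 0 := by
  rcases eq_or_ne b 0 with hb | hb
  · refine ⟨?_, hb⟩
    rw [hb] at hab
    have h1 : a * a = 0 := by linear_combination hab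
    exact mul_self_eq_zero.1 h1
  · exfalso
    apply h.nsq
    refine ⟨a / b, ?_⟩
    field_simp
    linear_combination -hab

theorem norm_ne (h : Hm B θ δ) {a b : F} (hab : a ≠ 0 ∨ b ≠ 0) : a * a - δ * (b * b) ≠ 0 := by
  intro h0
  obtain ⟨h1, h2⟩ := h.aniso h0
  rcases hab with h3 | h3
  · exact h3 h1
  · exact h3 h2

theorem kk_zero (h : Hm B θ δ) {a b : F} {v : V} (hv : v ≠ 0) (h0 : a • v + b • θ v = 0) : a = 0 ∧ b = 0 := by
  have h1 : θ (a • v + b • θ v) = a • θ v + (b * δ) • v := by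
    rw [map_add, map_smul, map_smul, h.sq, smul_smul]
  rw [h0, map_zero] at h1
  have h2 : (a * a - δ * (b * b)) • v = 0 := by
    have h3 : (a * a - δ * (b * b)) • v = a • (a • v + b • θ v) - b • (a • θ v + (b * δ) • v) := by module
    rw [h3, h0, ← h1]
    simp
  rcases smul_eq_zero.1 h2 with h3 | h3
  · exact h.aniso h3
  · exact absurd h3 hv

/-- the similitude `a + b θ` -/
def ks (h : Hm B θ δ) (a b : F) (hab : a * a - δ * (b * b) ≠ 0) : SS B where
  f := { toFun := fun v => a • v + b • θ v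
         invFun := fun v => (a * a - δ * (b * b))⁻¹ • (a • v - b • θ v)
         left_inv := fun v => by
          have h1 : a • (a • v + b • θ v) - b • θ (a • v + b • θ v) = (a * a - δ * (b * b)) • v := by
            rw [map_add, map_smul, map_smul, h.sq]
            module
          show (a * a - δ * (b * b))⁻¹ • (a • (a • v + b • θ v) - b • θ (a • v + b • θ v)) = v
          rw [h1, smul_smul, inv_mul_cancel₀ hab, one_smul]
         right_inv := fun v => by
          have h1 : a • (a • v - b • θ v) + b • θ (a • v - b • θ v) = (a * a - δ * (b * b)) • v := by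
            rw [map_sub, map_smul, map_smul, h.sq]
            module
          show a • ((a * a - δ * (b * b))⁻¹ • (a • v - b • θ v)) +
            b • θ ((a * a - δ * (b * b))⁻¹ • (a • v - b • θ v)) = v
          rw [map_smul, smul_comm a, smul_comm b, ← smul_add, h1, smul_smul, inv_mul_cancel₀ hab, one_smul]
         map_add' := fun v w => by
          rw [map_add]
          module }
  σ := 1
  l := a * a - δ * (b * b)
  hl := hab
  smul' c v := by
    show a • (c • v) + b • θ (c • v) = c • (a • v + b • θ v)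
    rw [map_smul]
    module
  form' u v := by
    show B (a • u + b • θ u) (a • v + b • θ v) = (a * a - δ * (b * b)) * B u v
    simp only [map_add, LinearMap.add_apply, map_smul, LinearMap.smul_apply, smul_eq_mul, h.tt, h.skew]
    ring

theorem ks_apply (h : Hm B θ δ) (a b : F) (hab : a * a - δ * (b * b) ≠ 0) (v : V) :
    h.ks a b hab v = a • v + b • θ v := rfl

theorem ks_lin (h : Hm B θ δ) (a b : F) (hab : a * a - δ * (b * b) ≠ 0) : (h.ks a b hab).IsLin := rfl

/-- the isometries commuting with `θ` -/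
def CT (B : LinearMap.BilinForm F V) (θ : Module.End F V) : Subgroup (Sp B) where
  carrier := {s | ∀ v, s.1 (θ v) = θ (s.1 v)}
  one_mem' := fun _ => rfl
  mul_mem' := by
    intro s t hs ht v
    show s.1 (t.1 (θ v)) = θ (s.1 (t.1 v))
    rw [ht v, hs]
  inv_mem' := by
    intro s hs v
    show s.1.symm (θ v) = θ (s.1.symm v)
    rw [LinearEquiv.symm_apply_eq, hs, LinearEquiv.apply_symm_apply]

theorem mem_CT {s : Sp B} : s ∈ CT B θ ↔ ∀ v, s.1 (θ v) = θ (s.1 v) := Iff.rfl

theorem cj_ks (h : Hm B θ δ) {a b : F} (hab : a * a - δ * (b * b) ≠ 0) {s : Sp B} (hs : s ∈ CT B θ) :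
    SS.cj (h.ks a b hab) s = s := by
  apply SS.cj_eq
  intro v
  rw [ks_apply, ks_apply, map_add, map_smul, map_smul, hs]

theorem mem_CT_of_cj (h : Hm B θ δ) {s : Sp B} (hab : (0 : F) * 0 - δ * (1 * 1) ≠ 0)
    (hs : SS.cj (h.ks 0 1 hab) s = s) : s ∈ CT B θ := by
  intro v
  have h1 := SS.cj_apply (h.ks 0 1 hab) s v
  rw [hs, ks_apply, ks_apply, zero_smul, zero_smul, one_smul, one_smul, zero_add, zero_add] at h1
  exact h1

theorem th1 (h : Hm B θ δ) : (0 : F) * 0 - δ * (1 * 1) ≠ 0 := by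
  have := h.d0
  simpa using this

/-! ### Unitary transvections -/

/-- the unitary transvection with centre `K e` -/
def kt (h : Hm B θ δ) (e : V) (c : F) : Sp B := tv h.form e c * tv h.form (θ e) (-(δ⁻¹ * c))

theorem kt_apply (h : Hm B θ δ) {e : V} (he : B e (θ e) = 0) (c : F) (v : V) :
    (h.kt e c).1 v = v + (c * B v e) • e - (δ⁻¹ * c * B v (θ e)) • θ e := by
  show (tv h.form e c).1 ((tv h.form (θ e) (-(δ⁻¹ * c))).1 v) = _
  rw [tv_apply, tv_apply, map_add, LinearMap.add_apply, map_smul, LinearMap.smul_apply, h.form.swap0 he, smul_zero,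
    add_zero]
  module

theorem kt_mem (h : Hm B θ δ) {e : V} (he : B e (θ e) = 0) (c : F) : h.kt e c ∈ CT B θ := by
  intro v
  rw [h.kt_apply he, h.kt_apply he, h.tt, h.skew, map_sub, map_add, map_smul, map_smul, h.sq, smul_smul]
  have := h.d0
  have h1 : δ⁻¹ * c * B v (θ e) * δ = c * B v (θ e) := by field_simp
  have h2 : δ⁻¹ * c * -(δ * B v e) = -(c * B v e) := by field_simp
  rw [h1, h2]
  module

theorem kt_neg (h : Hm B θ δ) {e : V} (he : B e (θ e) = 0) (c : F) : (h.kt e c)⁻¹ = h.kt e (-c) := by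
  rw [inv_eq_iff_mul_eq_one]
  apply Subtype.ext
  apply LinearEquiv.ext
  intro v
  show (h.kt e c).1 ((h.kt e (-c)).1 v) = v
  rw [h.kt_apply he, h.kt_apply he]
  simp only [map_add, map_sub, LinearMap.add_apply, LinearMap.sub_apply, map_smul, LinearMap.smul_apply, smul_eq_mul,
    h.form.alt, he, h.form.swap0 he]
  module

theorem kt_conj (h : Hm B θ δ) (e : V) (c : F) {s : Sp B} (hs : s ∈ CT B θ) :
    s * h.kt e c * s⁻¹ = h.kt (s.1 e) c := by
  have h1 : ∀ (x : V) (d : F), s * tv h.form x d * s⁻¹ = tv h.form (s.1 x) d := by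
    intro x d
    rw [← SS.cj_tg, cj_tv]
    show tv h.form (s.1 x) (d * (1 : F)⁻¹) = _
    rw [inv_one, mul_one]
  have h2 : s * h.kt e c * s⁻¹ = (s * tv h.form e c * s⁻¹) * (s * tv h.form (θ e) (-(δ⁻¹ * c)) * s⁻¹) := by
    rw [kt]; group
  rw [h2, h1, h1, hs]
  rfl

theorem kt_scale (h : Hm B θ δ) {e : V} (he : B e (θ e) = 0) (a b c : F) :
    h.kt (a • e + b • θ e) c = h.kt e ((a * a - δ * (b * b)) * c) := by
  have he' : B (a • e + b • θ e) (θ (a • e + b • θ e)) = 0 := by
    simp only [map_add, map_smul, LinearMap.add_apply, LinearMap.smul_apply, smul_eq_mul, h.sq, h.form.alt, he,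
      h.form.swap0 he]
    ring
  apply Subtype.ext
  apply LinearEquiv.ext
  intro v
  rw [h.kt_apply he', h.kt_apply he]
  simp only [map_add, map_smul, smul_eq_mul, h.sq]
  have := h.d0
  generalize B v e = x
  generalize B v (θ e) = y
  have h1 : δ⁻¹ * c * (a * y + b * (δ * x)) * (b * δ) = c * b * (a * y + b * (δ * x)) := by field_simp
  have h2 : v + (c * (a * x + b * y)) • (a • e + b • θ e) -
      (δ⁻¹ * c * (a * y + b * (δ * x))) • (a • θ e + b • δ • e) =
      v + (c * (a * x + b * y) * a - δ⁻¹ * c * (a * y + b * (δ * x)) * (b * δ)) • e +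
      (c * (a * x + b * y) * b - δ⁻¹ * c * (a * y + b * (δ * x)) * a) • θ e := by module
  have h3 : δ⁻¹ * c * (a * y + b * (δ * x)) * a = δ⁻¹ * c * a * a * y + c * a * b * x := by field_simp
  have h4 : δ⁻¹ * ((a * a - δ * (b * b)) * c) * y = δ⁻¹ * c * a * a * y - b * b * c * y := by field_simp
  rw [h2, h1, h3, h4]
  module

/-! ### The conjugate-linear part of `Sym²(K e)` -/

/-- `us e a b : v ↦ v + a (B(v,e) e + δ⁻¹ B(v,θe) θe) + b (B(v,e) θe + B(v,θe) e)` -/
def us (h : Hm B θ δ) (e : V) (a b : F) : Sp B :=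
  tv h.form (e + θ e) b * (tv h.form e (a - b) * tv h.form (θ e) (δ⁻¹ * a - b))

theorem us_apply (h : Hm B θ δ) {e : V} (he : B e (θ e) = 0) (a b : F) (v : V) :
    (h.us e a b).1 v = v + (a * B v e + b * B v (θ e)) • e + (δ⁻¹ * a * B v (θ e) + b * B v e) • θ e := by
  show (tv h.form (e + θ e) b).1 ((tv h.form e (a - b)).1 ((tv h.form (θ e) (δ⁻¹ * a - b)).1 v)) = _
  rw [tv_apply, tv_apply, tv_apply]
  simp only [map_add, LinearMap.add_apply, map_smul, LinearMap.smul_apply, smul_eq_mul, h.form.alt, he,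
    h.form.swap0 he]
  module

theorem us_mul (h : Hm B θ δ) {e : V} (he : B e (θ e) = 0) (a b a' b' : F) :
    h.us e a b * h.us e a' b' = h.us e (a + a') (b + b') := by
  apply Subtype.ext
  apply LinearEquiv.ext
  intro v
  show (h.us e a b).1 ((h.us e a' b').1 v) = _
  rw [h.us_apply he, h.us_apply he, h.us_apply he]
  simp only [map_add, LinearMap.add_apply, map_smul, LinearMap.smul_apply, smul_eq_mul, h.form.alt, he,
    h.form.swap0 he]
  module

theorem us_zero (h : Hm B θ δ) {e : V} (he : B e (θ e) = 0) : h.us e 0 0 = 1 := by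
  apply Subtype.ext
  apply LinearEquiv.ext
  intro v
  rw [h.us_apply he]
  show _ = v
  module

theorem us_inv (h : Hm B θ δ) {e : V} (he : B e (θ e) = 0) (a b : F) : (h.us e a b)⁻¹ = h.us e (-a) (-b) := by
  rw [inv_eq_iff_mul_eq_one, h.us_mul he, add_neg_cancel, add_neg_cancel, h.us_zero he]

theorem cj_us (h : Hm B θ δ) {e : V} (he : B e (θ e) = 0) {x y a b a' b' : F} (hxy : x * x - δ * (y * y) ≠ 0)
    (h1 : x * a' - y * δ * b' = x * a + y * δ * b) (h2 : x * b' - y * a' = x * b + y * a) :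
    SS.cj (h.ks x y hxy) (h.us e a b) = h.us e a' b' := by
  apply SS.cj_eq
  intro v
  rw [h.us_apply he, h.us_apply he, ks_apply, ks_apply]
  simp only [map_add, LinearMap.add_apply, map_smul, LinearMap.smul_apply, smul_eq_mul, h.tt, h.skew, h.sq]
  have := h.d0
  generalize B v e = p
  generalize B v (θ e) = q
  have e1 : a' * (x * p + y * -q) + b' * (x * q + y * -(δ * p)) = x * (a * p + b * q) + y * δ * (δ⁻¹ * a * q + b * p) := by
    have h3 : y * δ * (δ⁻¹ * a * q + b * p) = y * a * q + y * δ * b * p := by field_simp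
    rw [h3]
    linear_combination p * h1 + q * h2
  have e2 : δ⁻¹ * a' * (x * q + y * -(δ * p)) + b' * (x * p + y * -q) = x * (δ⁻¹ * a * q + b * p) + y * (a * p + b * q) := by
    have h3 : δ⁻¹ * a' * (x * q + y * -(δ * p)) = δ⁻¹ * a' * x * q - y * a' * p := by field_simp; ring
    rw [h3]
    have h4 : δ⁻¹ * (y * δ) = y := by field_simp
    linear_combination p * h2 + q * δ⁻¹ * h1 + (q * b' + q * b) * h4
  rw [e1, e2]
  module

/-- conjugation by an isometry with eigenvector `e` -/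
theorem conj_us (h : Hm B θ δ) {e : V} (he : B e (θ e) = 0) {s : Sp B} (hs : s ∈ CT B θ) {k : F}
    (hse : s.1 e = k • e) (a b : F) : s * h.us e a b * s⁻¹ = h.us e (k * k * a) (k * k * b) := by
  rw [← SS.cj_tg]
  apply SS.cj_eq
  intro v
  have h1 : B v e = k * B (s.1 v) e := by
    have h2 := s.2 v e
    rw [hse, map_smul, smul_eq_mul] at h2
    exact h2.symm
  have h3 : B v (θ e) = k * B (s.1 v) (θ e) := by
    have h2 := s.2 v (θ e)
    rw [hs, hse, map_smul, map_smul, smul_eq_mul] at h2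
    exact h2.symm
  rw [h.us_apply he, h.us_apply he, SS.tg_apply, SS.tg_apply, map_add, map_add, map_smul, map_smul, hs, hse, h1, h3,
    map_smul]
  module

/-! ### `SL₂(F)` on a hyperbolic `K`-plane -/

end Hm

/-- a hyperbolic pair -/
structure Hyp (B : LinearMap.BilinForm F V) (θ : Module.End F V) (e f : V) : Prop where
  ef : B e f = 1
  et : B e (θ f) = 0
  ee : B e (θ e) = 0
  ff : B f (θ f) = 0

namespace Hyp

variable {e f : V}

theorem n1 (hp : Hyp B θ e f) : B e f ≠ 0 := by rw [hp.ef]; exact one_ne_zero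

theorem tf (h : Hm B θ δ) (hp : Hyp B θ e f) : B (θ e) f = 0 := by rw [h.skew, hp.et, neg_zero]

theorem fe (h : Hm B θ δ) (hp : Hyp B θ e f) : B f (θ e) = 0 := h.form.swap0 (hp.tf h)

theorem n2 (h : Hm B θ δ) (hp : Hyp B θ e f) : B (θ e) (θ f) ≠ 0 := by
  rw [h.tt, hp.ef, mul_one]
  exact neg_ne_zero.2 h.d0

/-- the two copies commute -/
theorem comm (h : Hm B θ δ) (hp : Hyp B θ e f) (g k : SpecialLinearGroup (Fin 2) F) :
    hj h.form hp.n1 g * hj h.form (hp.n2 h) k = hj h.form (hp.n2 h) k * hj h.form hp.n1 g := by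
  have h1 : (hj h.form hp.n1 g).1 (θ e) = θ e := by
    rw [hj_apply, hs_def, hp.tf h, hp.ee]
    simp
  have h2 : (hj h.form hp.n1 g).1 (θ f) = θ f := by
    rw [hj_apply, hs_def, hp.et, h.form.swap0 hp.ff]
    simp
  have hl' : B (SS.tg (hj h.form hp.n1 g) (θ e)) (SS.tg (hj h.form hp.n1 g) (θ f)) ≠ 0 := by
    rw [SS.tg_apply, SS.tg_apply, h1, h2]; exact hp.n2 h
  have h3 := cj_hj h.form (SS.tg (hj h.form hp.n1 g)) rfl (hp.n2 h) hl' k
  rw [SS.cj_tg] at h3
  rw [← mul_inv_eq_iff_eq_mul, h3]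
  exact hj_congr h.form hl' (hp.n2 h) h1 h2 k

/-- `SL₂(F)` acting `K`-linearly on the hyperbolic plane -/
def J (h : Hm B θ δ) (hp : Hyp B θ e f) : SpecialLinearGroup (Fin 2) F →* Sp B where
  toFun g := hj h.form hp.n1 g * hj h.form (hp.n2 h) g
  map_one' := by rw [map_one, map_one, one_mul]
  map_mul' g k := by
    rw [map_mul, map_mul, mul_assoc, mul_assoc, ← mul_assoc (hj h.form hp.n1 k), hp.comm h k g, mul_assoc]

theorem J_def (h : Hm B θ δ) (hp : Hyp B θ e f) (g : SpecialLinearGroup (Fin 2) F) :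
    hp.J h g = hj h.form hp.n1 g * hj h.form (hp.n2 h) g := rfl

theorem cj_hj1 (h : Hm B θ δ) (hp : Hyp B θ e f) (g : SpecialLinearGroup (Fin 2) F) :
    SS.cj (h.ks 0 1 h.th1) (hj h.form hp.n1 g) = hj h.form (hp.n2 h) g := by
  have k1 : ∀ v, h.ks 0 1 h.th1 v = θ v := fun v => by rw [Hm.ks_apply, zero_smul, one_smul, zero_add]
  have hl' : B (h.ks 0 1 h.th1 e) (h.ks 0 1 h.th1 f) ≠ 0 := by rw [k1, k1]; exact hp.n2 h
  rw [cj_hj h.form (h.ks 0 1 h.th1) rfl hp.n1 hl']
  exact hj_congr h.form hl' (hp.n2 h) (k1 e) (k1 f) g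

theorem cj_hj2 (h : Hm B θ δ) (hp : Hyp B θ e f) (g : SpecialLinearGroup (Fin 2) F) :
    SS.cj (h.ks 0 1 h.th1) (hj h.form (hp.n2 h) g) = hj h.form hp.n1 g := by
  have k1 : ∀ v, h.ks 0 1 h.th1 v = θ v := fun v => by rw [Hm.ks_apply, zero_smul, one_smul, zero_add]
  have hl' : B (h.ks 0 1 h.th1 (θ e)) (h.ks 0 1 h.th1 (θ f)) ≠ 0 := by
    rw [k1, k1, h.tt]
    exact neg_ne_zero.2 (mul_ne_zero h.d0 (hp.n2 h))
  have hl'' : B (δ • e) (δ • f) ≠ 0 := by
    rw [map_smul, map_smul, LinearMap.smul_apply, hp.ef, smul_eq_mul, smul_eq_mul, mul_one]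
    exact mul_ne_zero h.d0 h.d0
  rw [cj_hj h.form (h.ks 0 1 h.th1) rfl (hp.n2 h) hl']
  rw [hj_congr h.form hl' hl'' (by rw [k1, h.sq]) (by rw [k1, h.sq]) g]
  exact hj_smul h.form hp.n1 h.d0 hl'' g

theorem J_mem (h : Hm B θ δ) (hp : Hyp B θ e f) (g : SpecialLinearGroup (Fin 2) F) : hp.J h g ∈ Hm.CT B θ := by
  apply h.mem_CT_of_cj h.th1
  rw [J_def, map_mul, hp.cj_hj1 h, hp.cj_hj2 h, hp.comm h g g]

theorem J_up (h : Hm B θ δ) (hp : Hyp B θ e f) (c : F) : hp.J h (up c) = h.kt e (-c) := by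
  rw [J_def, hj_upper, hj_upper, Hm.kt, hp.ef, h.tt, hp.ef]
  have := h.d0
  congr 2
  · rw [inv_one, one_mul]
  · field_simp

theorem J_lo (h : Hm B θ δ) (hp : Hyp B θ e f) (c : F) : hp.J h (lo c) = h.kt f c := by
  rw [J_def, hj_lower, hj_lower, Hm.kt, hp.ef, h.tt, hp.ef]
  have := h.d0
  congr 2
  · rw [inv_one, one_mul]
  · field_simp

/-- the eigenvector -/
theorem J_dg (h : Hm B θ δ) (hp : Hyp B θ e f) {c : F} (hc : c ≠ 0) : (hp.J h (dg c hc)).1 e = c • e := by
  show (hj h.form hp.n1 (dg c hc)).1 ((hj h.form (hp.n2 h) (dg c hc)).1 e) = _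
  rw [hj_dg, hj_dg, hp.et, h.form.swap0 hp.ee]
  simp only [mul_zero, zero_smul, add_zero, hp.ef, h.form.alt, inv_one, mul_one]
  module

end Hyp

end

end Cfsg.Agent.H834.RC
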