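import Cfsg.Agent.H834.RC.Her2

/-!
# S3510, row D, (HER): isotropic vectors, normal closures (helper834)

* `exists_iso` : isotropic vectors; `exists_partner` : hyperbolic pairs;
* `eq_one_of_iso` : an isometry which fixes all the isotropic vectors is trivial;
* `exists_pair` : a subgroup `R` normalised by `CT` which contains an element of order `p` of `CT` contains
  `kt e 1 * kt f c` for a hyperbolic pair `e, f`, `c ≠ 0`.
-/

set_option autoImplicit false

namespace Cfsg.Agent.H834.RC

open MulAction Module Cfsg.Agent.H106.RC Cfsg.Agent.H520.RC Matrix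

universe u v

section

variable {F : Type u} {V : Type v} [Field F] [AddCommGroup V] [Module F V]
variable {B : LinearMap.BilinForm F V}

/-- dual vectors -/
theorem exists_dual [FiniteDimensional F V] (h : NAlt B) {e : V} {S : Set V} (he : e ∉ Submodule.span F S) :
    ∃ w, B e w = 1 ∧ ∀ s ∈ S, B s w = 0 := by
  obtain ⟨φ, hφ, hS⟩ := Submodule.exists_dual_map_eq_bot_of_notMem he inferInstance
  have hinj : Function.Injective (B.flip : V →ₗ[F] Dual F V) := by
    rw [← LinearMap.ker_eq_bot, LinearMap.ker_eq_bot']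
    intro w hw
    apply h.nd'
    intro y
    exact congrArg (fun f : Dual F V => f y) hw
  have hsur := (LinearMap.injective_iff_surjective_of_finrank_eq_finrank
    (f := (B.flip : V →ₗ[F] Dual F V)) (Subspace.dual_finrank_eq (K := F) (V := V)).symm).1 hinj
  obtain ⟨w, hw⟩ := hsur φ
  have hw' : ∀ y, B y w = φ y := fun y => congrArg (fun f : Dual F V => f y) hw
  refine ⟨(φ e)⁻¹ • w, ?_, fun s hs => ?_⟩
  · rw [map_smul, smul_eq_mul, hw', inv_mul_cancel₀ hφ]
  · rw [map_smul, smul_eq_mul, hw']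
    have h1 : φ s ∈ (Submodule.span F S).map φ := ⟨s, Submodule.subset_span hs, rfl⟩
    rw [hS, Submodule.mem_bot] at h1
    rw [h1, mul_zero]

/-- norms -/
theorem exists_norm [Finite F] (h2 : (2 : F) ≠ 0) {δ : F} (hδ : δ ≠ 0) (c : F) :
    ∃ a b : F, a * a - δ * (b * b) = c := by
  classical
  have := Fintype.ofFinite F
  have hch : ringChar F ≠ 2 := by
    intro h0
    apply h2
    have h3 := (ringChar.spec F 2).2 (by rw [h0])
    exact_mod_cast h3
  have hodd := FiniteField.odd_card_of_char_ne_two hch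
  obtain ⟨a, b, hab⟩ := FiniteField.exists_root_sum_quadratic
    (Polynomial.degree_quadratic (a := (1 : F)) (b := 0) (c := 0) one_ne_zero)
    (Polynomial.degree_quadratic (a := -δ) (b := 0) (c := -c) (neg_ne_zero.2 hδ)) hodd
  refine ⟨a, b, ?_⟩
  simp only [Polynomial.eval_add, Polynomial.eval_mul, Polynomial.eval_pow, Polynomial.eval_X,
    Polynomial.eval_C] at hab
  linear_combination hab

variable {θ : Module.End F V} {δ : F}

namespace Hm

theorem iso_kk (h : Hm B θ δ) {e : V} (he : B e (θ e) = 0) (a b : F) :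
    B (a • e + b • θ e) (θ (a • e + b • θ e)) = 0 := by
  simp only [map_add, map_smul, LinearMap.add_apply, LinearMap.smul_apply, smul_eq_mul, h.sq, h.form.alt, he,
    h.form.swap0 he]
  ring

theorem iso_add (h : Hm B θ δ) {e : V} (he : B e (θ e) = 0) (v : V) (a b : F) :
    B (v + (a • e + b • θ e)) (θ (v + (a • e + b • θ e))) =
      B v (θ v) + 2 * a * B v (θ e) + 2 * (b * δ) * B v e := by
  have h1 : B e (θ v) = B v (θ e) := h.sym e v
  have h2 : B (θ e) (θ v) = δ * B v e := by rw [h.tt, h.form.swap]; ring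
  simp only [map_add, map_smul, LinearMap.add_apply, LinearMap.smul_apply, smul_eq_mul, h.sq, h.form.alt, he,
    h.form.swap0 he, h1, h2]
  ring

theorem iso_map {e : V} (he : B e (θ e) = 0) {s : Sp B} (hs : s ∈ CT B θ) : B (s.1 e) (θ (s.1 e)) = 0 := by
  rw [← hs, s.2, he]

/-- isotropic vectors -/
theorem exists_iso [Finite F] [FiniteDimensional F V] (h : Hm B θ δ) (hd : 4 ≤ finrank F V) :
    ∃ e : V, e ≠ 0 ∧ B e (θ e) = 0 := by
  have : Nontrivial V := Module.nontrivial_of_finrank_pos (R := F) (by omega)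
  obtain ⟨v, hv⟩ := exists_ne (0 : V)
  rcases eq_or_ne (B v (θ v)) 0 with h0 | h0
  · exact ⟨v, hv, h0⟩
  -- a vector orthogonal to `v` and `θ v`
  have hW : 2 ≤ finrank F ↥(LinearMap.ker (B v) ⊓ LinearMap.ker (B (θ v))) := by
    have h3 : finrank F V ≤ finrank F (LinearMap.ker (B v)) + 1 := by
      have := LinearMap.finrank_range_add_finrank_ker (B v)
      have h4 : finrank F (LinearMap.range (B v)) ≤ 1 := by
        calc finrank F (LinearMap.range (B v)) ≤ finrank F F := Submodule.finrank_le _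
          _ = 1 := finrank_self F
      omega
    have h5 : finrank F V ≤ finrank F (LinearMap.ker (B (θ v))) + 1 := by
      have := LinearMap.finrank_range_add_finrank_ker (B (θ v))
      have h4 : finrank F (LinearMap.range (B (θ v))) ≤ 1 := by
        calc finrank F (LinearMap.range (B (θ v))) ≤ finrank F F := Submodule.finrank_le _
          _ = 1 := finrank_self F
      omega
    have h6 := Submodule.finrank_sup_add_finrank_inf_eq (LinearMap.ker (B v)) (LinearMap.ker (B (θ v)))
    have h7 := Submodule.finrank_le (LinearMap.ker (B v) ⊔ LinearMap.ker (B (θ v)))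
    omega
  have : Nontrivial ↥(LinearMap.ker (B v) ⊓ LinearMap.ker (B (θ v))) :=
    Module.nontrivial_of_finrank_pos (R := F) (by omega)
  obtain ⟨⟨w, hw⟩, hw0⟩ := exists_ne (0 : ↥(LinearMap.ker (B v) ⊓ LinearMap.ker (B (θ v))))
  have hw1 : B v w = 0 := LinearMap.mem_ker.1 hw.1
  have hw2 : B (θ v) w = 0 := LinearMap.mem_ker.1 hw.2
  have hwne : w ≠ 0 := fun h => hw0 (Subtype.ext h)
  have hw3 : B v (θ w) = 0 := by
    rw [h.skew] at hw2
    exact neg_eq_zero.1 hw2
  obtain ⟨a, b, hab⟩ := exists_norm h.two h.d0 (-(B w (θ w)) / B v (θ v))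
  refine ⟨w + (a • v + b • θ v), fun h1 => hwne ?_, ?_⟩
  · -- `w` is orthogonal to `w + κ v`
    have h2 : B w (θ w) = 0 := by
      have h3 := congrArg (fun x => B x (θ w)) h1
      simp only [map_add, map_smul, LinearMap.add_apply, LinearMap.smul_apply, smul_eq_mul, hw3, h.tt, hw1,
        map_zero, LinearMap.zero_apply] at h3
      linear_combination h3
    rw [h2, neg_zero, zero_div] at hab
    obtain ⟨rfl, rfl⟩ := h.aniso hab
    simpa using h1
  · have e1 : B w (θ v) = 0 := by rw [h.sym]; exact hw3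
    have e2 : B w v = 0 := h.form.swap0 hw1
    have e3 : B (θ v) (θ w) = 0 := by rw [h.tt, hw1, mul_zero, neg_zero]
    have e4 : B (θ v) v = -B v (θ v) := h.skew v v
    simp only [map_add, map_smul, LinearMap.add_apply, LinearMap.smul_apply, smul_eq_mul, h.sq, h.form.alt, e1, e2,
      e3, e4, hw3]
    have h5 : (a * a - δ * (b * b)) * B v (θ v) = -(B w (θ w)) := by rw [hab]; field_simp
    linear_combination h5

/-- hyperbolic partner orthogonal to `K e₁` -/
theorem exists_partner [FiniteDimensional F V] (h : Hm B θ δ) {e e1 : V}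
    (he : e ∉ Submodule.span F {θ e, e1, θ e1}) (hee : B e (θ e) = 0) (h1 : B e1 e = 0) (h2 : B e1 (θ e) = 0) :
    ∃ f, Hyp B θ e f ∧ B e1 f = 0 ∧ B e1 (θ f) = 0 := by
  obtain ⟨w, hw1, hw⟩ := exists_dual h.form he
  have w1 : B (θ e) w = 0 := hw _ (by simp)
  have w2 : B e1 w = 0 := hw _ (by simp)
  have w3 : B (θ e1) w = 0 := hw _ (by simp)
  have w4 : B e (θ w) = 0 := by rw [h.skew] at w1; exact neg_eq_zero.1 w1
  have w5 : B e1 (θ w) = 0 := by rw [h.skew] at w3; exact neg_eq_zero.1 w3
  have hd := h.d0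
  have h20 := h.two
  refine ⟨w + ((0 : F) • e + (B w (θ w) / (2 * δ)) • θ e), ⟨?_, ?_, hee, ?_⟩, ?_, ?_⟩
  · simp only [map_add, map_smul, smul_eq_mul, hw1, hee, h.form.alt]; ring
  · simp only [map_add, map_smul, smul_eq_mul, w4, hee, h.sq, h.form.alt]; ring
  · rw [h.iso_add hee, h.form.swap w e, hw1]
    field_simp
    ring
  · simp only [map_add, map_smul, smul_eq_mul, w2, h1, h2]; ring
  · simp only [map_add, map_smul, smul_eq_mul, w5, h1, h2, h.sq]; ring

theorem exists_partner' [FiniteDimensional F V] (h : Hm B θ δ) {e : V} (he : e ≠ 0) (hee : B e (θ e) = 0) :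
    ∃ f, Hyp B θ e f := by
  have hspan : e ∉ Submodule.span F {θ e, (0 : V), θ (0 : V)} := by
    intro hmem
    rw [map_zero] at hmem
    have h1 : Submodule.span F {θ e, (0 : V), 0} = Submodule.span F {θ e} := by
      rw [Set.pair_eq_singleton, Set.pair_comm, Submodule.span_insert_zero]
    rw [h1, Submodule.mem_span_singleton] at hmem
    obtain ⟨a, ha⟩ := hmem
    have h2 : (-1 : F) • e + a • θ e = 0 := by rw [ha]; module
    have h3 := (h.kk_zero he h2).1
    exact one_ne_zero (neg_eq_zero.1 h3)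
  obtain ⟨f, hf, -⟩ := h.exists_partner hspan hee (by simp) (by simp)
  exact ⟨f, hf⟩

/-- isotropic vectors span -/
theorem eq_one_of_iso [Finite F] [FiniteDimensional F V] (h : Hm B θ δ) (hd : 4 ≤ finrank F V) {t : Sp B}
    (hiso : ∀ e, e ≠ 0 → B e (θ e) = 0 → t.1 e = e) : t = 1 := by
  have hiso' : ∀ e, B e (θ e) = 0 → t.1 e = e := by
    intro e he
    by_cases h0 : e = 0
    · rw [h0, map_zero]
    · exact hiso e h0 he
  obtain ⟨e, he0, he⟩ := h.exists_iso hd
  have hd0 := h.d0
  have h2 := h.two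
  have key : ∀ v, (B v e ≠ 0 ∨ B v (θ e) ≠ 0) → t.1 v = v := by
    intro v hv
    obtain ⟨a, b, hab⟩ : ∃ a b : F, B v (θ v) + 2 * a * B v (θ e) + 2 * (b * δ) * B v e = 0 := by
      rcases hv with hv | hv
      · refine ⟨0, -(B v (θ v)) / (2 * δ * B v e), ?_⟩
        field_simp
        ring
      · refine ⟨-(B v (θ v)) / (2 * B v (θ e)), 0, ?_⟩
        field_simp
        ring
    have h3 := hiso' _ ((h.iso_add he v a b).trans hab)
    have h4 := hiso' _ (h.iso_kk he a b)
    rw [map_add, h4] at h3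
    exact add_right_cancel h3
  obtain ⟨f, hf⟩ := h.exists_partner' he0 he
  apply Subtype.ext
  apply LinearEquiv.ext
  intro v
  show t.1 v = v
  by_cases hv : B v e ≠ 0 ∨ B v (θ e) ≠ 0
  · exact key v hv
  · push Not at hv
    have h3 : B (v + f) e ≠ 0 := by
      rw [map_add, LinearMap.add_apply, hv.1, zero_add, h.form.swap, hf.ef]
      exact neg_ne_zero.2 one_ne_zero
    have h4 := key (v + f) (Or.inl h3)
    have h5 := hiso' f hf.ff
    rw [map_add, h5] at h4
    exact add_right_cancel h4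

/-- an element of order `p` has only the eigenvalue one -/
theorem eigen_one (h : Hm B θ δ) {p : ℕ} [Fact p.Prime] [CharP F p] {t : Sp B} (ht : t ∈ CT B θ) (htp : t ^ p = 1)
    {e : V} (he : e ≠ 0) {a b : F} (hab : t.1 e = a • e + b • θ e) : t.1 e = e := by
  have : Nontrivial V := ⟨⟨e, 0, he⟩⟩
  have hch : CharP (Module.End F V) p := charP_of_injective_algebraMap (algebraMap F (Module.End F V)).injective p
  set T : Module.End F V := (t.1 : V →ₗ[F] V) with hT
  set Y : Module.End F V := (a - 1) • (1 : Module.End F V) + b • θ with hY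
  have hTp : T ^ p = 1 := by
    have h1 : ∀ n : ℕ, ∀ v, (T ^ n) v = (t ^ n).1 v := by
      intro n
      induction n with
      | zero => intro v; rfl
      | succ n ih =>
        intro v
        rw [pow_succ, Module.End.mul_apply, ih, pow_succ]
        rfl
    apply LinearMap.ext
    intro v
    rw [h1, htp]
    rfl
  have hN : (T - 1) ^ p = 0 := by
    rw [sub_pow_char_of_commute (p := p) (Commute.one_right T), hTp, one_pow, sub_self]
  have hYe : (T - 1) e = Y e := by
    show t.1 e - e = (a - 1) • e + b • θ e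
    rw [hab]
    module
  have hcomm : Commute (T - 1) Y := by
    have h1 : Commute T θ := by
      apply LinearMap.ext
      intro v
      exact ht v
    rw [hY]
    apply Commute.add_right
    · exact (Commute.one_right _).smul_right _
    · exact (h1.sub_left (Commute.one_left θ)).smul_right b
  have hk : ∀ k : ℕ, ((T - 1) ^ k) e = (Y ^ k) e := by
    intro k
    induction k with
    | zero => rfl
    | succ k ih =>
      rw [pow_succ', Module.End.mul_apply, ih]
      have h1 := congrArg (fun f : Module.End F V => f e) (hcomm.pow_right k).eq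
      simp only [Module.End.mul_apply] at h1
      rw [h1, hYe, pow_succ, Module.End.mul_apply]
  have h1 : (Y ^ p) e = 0 := by rw [← hk, hN]; rfl
  by_cases hab0 : a - 1 = 0 ∧ b = 0
  · rw [hab, hab0.2, sub_eq_zero.1 hab0.1]
    module
  · exfalso
    apply he
    have hinj : ∀ k : ℕ, (Y ^ k) e = 0 → e = 0 := by
      intro k
      induction k with
      | zero => intro h2; exact h2
      | succ k ih =>
        intro h2
        rw [pow_succ', Module.End.mul_apply] at h2
        apply ih
        by_contra h3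
        have h4 : (a - 1) • ((Y ^ k) e) + b • θ ((Y ^ k) e) = 0 := h2
        exact hab0 (h.kk_zero h3 h4)
    exact hinj p h1

/-- the final step -/
theorem pair_of (h : Hm B θ δ) {R : Subgroup (Sp B)} (hR : ∀ s ∈ CT B θ, ∀ y ∈ R, s * y * s⁻¹ ∈ R) {e : V}
    (hee : B e (θ e) = 0) {y : Sp B} (hyR : y ∈ R) (hyC : y ∈ CT B θ)
    (hne : B e (y.1 e) ≠ 0 ∨ B e (θ (y.1 e)) ≠ 0) :
    ∃ e f : V, Hyp B θ e f ∧ ∃ c : F, c ≠ 0 ∧ h.kt e 1 * h.kt f c ∈ R := by
  have hD := h.norm_ne (a := B e (θ (y.1 e))) (b := B e (y.1 e)) hne.symm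
  have hff := iso_map hee hyC
  have hP := h.d0
  generalize hx : B e (y.1 e) = P at *
  generalize hz : B e (θ (y.1 e)) = Q at *
  set D := Q * Q - δ * (P * P) with hDd
  have e1 : -(δ * P) / D * P + Q / D * Q = 1 := by
    field_simp
    rw [hDd]
    ring
  have e2 : -(δ * P) / D * Q + Q / D * (δ * P) = 0 := by ring
  have hN : (-(δ * P) / D) * (-(δ * P) / D) - δ * ((Q / D) * (Q / D)) ≠ 0 := by
    apply h.norm_ne
    by_contra hcon
    push Not at hcon
    rw [hcon.1, hcon.2, zero_mul, zero_mul, add_zero] at e1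
    exact zero_ne_one e1
  refine ⟨e, (-(δ * P) / D) • y.1 e + (Q / D) • θ (y.1 e), ⟨?_, ?_, hee, h.iso_kk hff _ _⟩,
    -((-(δ * P) / D) * (-(δ * P) / D) - δ * ((Q / D) * (Q / D)))⁻¹, neg_ne_zero.2 (inv_ne_zero hN), ?_⟩
  · rw [map_add, map_smul, map_smul, smul_eq_mul, smul_eq_mul, hx, hz]
    exact e1
  · rw [map_add, map_smul, map_smul, h.sq, map_add, map_smul, map_smul, map_smul, smul_eq_mul, smul_eq_mul,
      smul_eq_mul, hx, hz]
    exact e2
  · rw [h.kt_scale hff, mul_neg, mul_inv_cancel₀ hN, ← h.kt_conj e (-1) hyC, ← h.kt_neg hee]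
    have h1 : h.kt e 1 * (y * (h.kt e 1)⁻¹ * y⁻¹) = (h.kt e 1 * y * (h.kt e 1)⁻¹) * y⁻¹ := by group
    rw [h1]
    exact R.mul_mem (hR _ (h.kt_mem hee 1) y hyR) (R.inv_mem hyR)

/-- **the normal closure of an element of order `p`** -/
theorem exists_pair [Finite F] [FiniteDimensional F V] (h : Hm B θ δ) (hd : 4 ≤ finrank F V) {p : ℕ} [Fact p.Prime]
    [CharP F p] {R : Subgroup (Sp B)} (hR : ∀ s ∈ CT B θ, ∀ y ∈ R, s * y * s⁻¹ ∈ R) {t : Sp B} (htR : t ∈ R)
    (htC : t ∈ CT B θ) (ht1 : t ≠ 1) (htp : t ^ p = 1) :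
    ∃ e f : V, Hyp B θ e f ∧ ∃ c : F, c ≠ 0 ∧ h.kt e 1 * h.kt f c ∈ R := by
  obtain ⟨e, he0, hee, hte⟩ : ∃ e, e ≠ 0 ∧ B e (θ e) = 0 ∧ t.1 e ≠ e := by
    by_contra hcon
    push Not at hcon
    exact ht1 (h.eq_one_of_iso hd hcon)
  by_cases hne : B e (t.1 e) ≠ 0 ∨ B e (θ (t.1 e)) ≠ 0
  · exact h.pair_of hR hee htR htC hne
  · push Not at hne
    obtain ⟨n1, n2⟩ := hne
    have hK : ∀ a b : F, t.1 e ≠ a • e + b • θ e := fun a b hab => hte (h.eigen_one htC htp he0 hab)
    have m1 : B (t.1 e) e = 0 := h.form.swap0 n1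
    have m2 : B (t.1 e) (θ e) = 0 := by rw [h.sym]; exact n2
    have hspan : e ∉ Submodule.span F {θ e, t.1 e, θ (t.1 e)} := by
      intro hmem
      rw [Submodule.mem_span_insert] at hmem
      obtain ⟨a, z, hz, hez⟩ := hmem
      rw [Submodule.mem_span_pair] at hz
      obtain ⟨b, c, rfl⟩ := hz
      by_cases hbc : b = 0 ∧ c = 0
      · rw [hbc.1, hbc.2, zero_smul, zero_smul, add_zero, add_zero] at hez
        have h2 : (-1 : F) • e + a • θ e = 0 := by rw [← hez]; module
        exact one_ne_zero (neg_eq_zero.1 (h.kk_zero he0 h2).1)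
      · have hN := h.norm_ne (a := b) (b := c) (by tauto)
        have h3 : (b * b - δ * (c * c)) • t.1 e = (b + a * c * δ) • e + (-(a * b) - c) • θ e := by
          have h4 : b • t.1 e + c • θ (t.1 e) = e - a • θ e := by
            nth_rewrite 3 [hez]
            module
          have h5 : (b * b - δ * (c * c)) • t.1 e =
              b • (b • t.1 e + c • θ (t.1 e)) - c • θ (b • t.1 e + c • θ (t.1 e)) := by
            rw [map_add, map_smul, map_smul, h.sq]
            module
          rw [h5, h4, map_sub, map_smul, h.sq]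
          module
        refine hK ((b * b - δ * (c * c))⁻¹ * (b + a * c * δ)) ((b * b - δ * (c * c))⁻¹ * (-(a * b) - c)) ?_
        rw [mul_smul, mul_smul, ← smul_add, ← h3, smul_smul, inv_mul_cancel₀ hN, one_smul]
    obtain ⟨f, hf, f1, f2⟩ := h.exists_partner hspan hee m1 m2
    have hee1 := iso_map hee htC
    -- the product of two commuting transvections
    have hyR : h.kt (t.1 e) 1 * h.kt e (-1) ∈ R := by
      rw [← h.kt_conj e 1 htC, ← h.kt_neg hee]
      have h1 : t * h.kt e 1 * t⁻¹ * (h.kt e 1)⁻¹ = t * (h.kt e 1 * t⁻¹ * (h.kt e 1)⁻¹) := by group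
      rw [h1]
      exact R.mul_mem htR (hR _ (h.kt_mem hee 1) _ (R.inv_mem htR))
    have hyC : h.kt (t.1 e) 1 * h.kt e (-1) ∈ CT B θ := (CT B θ).mul_mem (h.kt_mem hee1 1) (h.kt_mem hee (-1))
    refine h.pair_of hR hf.ff hyR hyC (Or.inl ?_)
    have hfe : B f e = -1 := by rw [h.form.swap, hf.ef]
    have hfe2 : B f (θ e) = 0 := hf.fe h
    have g1 : B f (t.1 e) = 0 := h.form.swap0 f1
    have g2 : B f (θ (t.1 e)) = 0 := by rw [h.sym]; exact f2
    have h6 : (h.kt (t.1 e) 1 * h.kt e (-1)).1 f = f + e := by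
      show (h.kt (t.1 e) 1).1 ((h.kt e (-1)).1 f) = f + e
      rw [h.kt_apply hee, h.kt_apply hee1, hfe, hfe2]
      simp only [map_add, map_sub, LinearMap.add_apply, LinearMap.sub_apply, map_smul, LinearMap.smul_apply, smul_eq_mul,
        g1, g2, n1, n2]
      module
    rw [h6, map_add, h.form.alt, zero_add, hfe]
    exact neg_ne_zero.2 one_ne_zero

end Hm

end

end Cfsg.Agent.H834.RC
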