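import Cfsg.Agent.H834.RC.Her3
import Cfsg.Agent.H67.RC.Ab

/-!
# S3510, row D: `dead_her` (helper834)

The commuting members of order prime to `p` are in `K = F[θ]`, `θ* = -θ` : `V` is hermitian over `K`. No such cover.
-/

set_option autoImplicit false

namespace Cfsg.Agent.H834.RC

open MulAction Module Cfsg.Agent.H106.RC Cfsg.Agent.H520.RC Cfsg.Agent.H380.RC Cfsg.Agent.H67.RC Matrix

theorem cj_of_eq {F : Type*} {V : Type*} [Field F] [AddCommGroup V] [Module F V] {B : LinearMap.BilinForm F V}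
    {M L : SS B} (h : ∀ v, M v = L v) (s : Sp B) : SS.cj M s = SS.cj L s := by
  apply SS.cj_eq
  intro v
  rw [h, h, SS.cj_apply]

section

variable {F : Type} {V : Type} [Field F] [AddCommGroup V] [Module F V] {B : LinearMap.BilinForm F V}
  {θ : Module.End F V} {δ : F}

theorem Hm.us_pow (h : Hm B θ δ) {e : V} (he : B e (θ e) = 0) (a b : F) (n : ℕ) :
    (h.us e a b) ^ n = h.us e (n * a) (n * b) := by
  induction n with
  | zero => rw [pow_zero, Nat.cast_zero, zero_mul, zero_mul, h.us_zero he]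
  | succ n ih =>
    rw [pow_succ, ih, h.us_mul he, Nat.cast_succ]
    congr 1 <;> ring

/-- the group of the `us e a b` -/
def Hm.ug (h : Hm B θ δ) {e : V} (he : B e (θ e) = 0) : Subgroup (Sp B) where
  carrier := {s | ∃ a b : F, s = h.us e a b}
  one_mem' := ⟨0, 0, (h.us_zero he).symm⟩
  mul_mem' := by
    rintro _ _ ⟨a, b, rfl⟩ ⟨a', b', rfl⟩
    exact ⟨_, _, h.us_mul he a b a' b'⟩
  inv_mem' := by
    rintro _ ⟨a, b, rfl⟩
    exact ⟨_, _, h.us_inv he a b⟩

/-- closure of the group of the `us e a b` under `K` -/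
theorem Hm.cj_us_ex (h : Hm B θ δ) {e : V} (he : B e (θ e) = 0) {x y : F} (hxy : x * x - δ * (y * y) ≠ 0) (a b : F) :
    ∃ a' b' : F, SS.cj (h.ks x y hxy) (h.us e a b) = h.us e a' b' := by
  refine ⟨(x * x - δ * (y * y))⁻¹ * ((x * x + δ * (y * y)) * a + 2 * x * y * δ * b),
    (x * x - δ * (y * y))⁻¹ * (2 * x * y * a + (x * x + δ * (y * y)) * b), h.cj_us he hxy ?_ ?_⟩
  · generalize hD : x * x - δ * (y * y) = D at *
    field_simp
    rw [← hD]
    ring
  · generalize hD : x * x - δ * (y * y) = D at *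
    field_simp
    rw [← hD]
    ring

/-- the commutator -/
theorem Hm.cj_us_one (h : Hm B θ δ) {e : V} (he : B e (θ e) = 0) {x y : F} (hxy : x * x - δ * (y * y) ≠ 0) (hy : y ≠ 0) :
    ∃ a b : F, SS.cj (h.ks x y hxy) (h.us e a b) = h.us e (a - 1) b := by
  have h2 := h.two
  have hd := h.d0
  refine ⟨1 / 2, -x / (2 * y * δ), h.cj_us he hxy ?_ ?_⟩
  · field_simp
    ring
  · field_simp
    ring

end

variable {F : Type} {V : Type} [Field F] [Finite F] [AddCommGroup V] [Module F V] [FiniteDimensional F V]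
  {B : LinearMap.BilinForm F V} {G : Type} [Group G] [Finite G] {Ω : Type} [Finite Ω] [Nonempty Ω] [MulAction G Ω]
  {N : Subgroup G} {ρ : ↥(Sp B) →* G} {ι : Type} [Finite ι] {x : ι → G} {r : ι → ℕ} {M : ι → SS B}
  {θ : Module.End F V} {δ : F}

omit [Finite F] [Finite G] [Finite Ω] [Nonempty Ω] in
theorem us_ne_one (E : SpEnv Ω N ρ) (h : Hm B θ δ) {e : V} (he0 : e ≠ 0) (he : B e (θ e) = 0) :
    ρ (h.us e 1 0) ≠ 1 := by
  intro h1
  obtain ⟨a, ha⟩ := (E.ker _).1 h1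
  obtain ⟨f, hf⟩ := h.exists_partner' he0 he
  have h2 := ha e
  rw [h.us_apply he, h.form.alt, he] at h2
  have ha1 : a = 1 := by
    have h3 : (a - 1) • e = 0 := by
      rw [sub_smul, ← h2]
      module
    exact sub_eq_zero.1 ((smul_eq_zero.1 h3).resolve_right he0)
  have h3 := ha f
  rw [h.us_apply he, ha1, h.form.swap f e, hf.ef, hf.fe h] at h3
  have h4 : f - e = f := by
    calc f - e = f + ((1 : F) * -1 + 0 * 0) • e + (δ⁻¹ * 1 * 0 + 0 * -1) • θ e := by module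
      _ = (1 : F) • f := h3
      _ = f := one_smul F f
  exact he0 (sub_eq_self.1 h4)

/-- **the rule for `K e`** -/
theorem star_rule (E : SpEnv Ω N ρ) (h : Hm B θ δ) {p : ℕ} [Fact p.Prime] [CharP F p] {e : V} (he0 : e ≠ 0)
    (he : B e (θ e) = 0) {n : ι → ℕ} (hn : ∀ i, 0 < n i) (hx : ∀ i, x i ^ n i = 1)
    (hc : ∀ i j, x i * x j = x j * x i) (hcov : Cov Ω x) (hco : ∀ i, (n i).Coprime p)
    (h1 : ∀ i, ∀ a b : F, ∃ a' b' : F, x i * ρ (h.us e a b) * (x i)⁻¹ = ρ (h.us e a' b'))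
    (h2 : ∀ i, ∃ a b : F, x i * ρ (h.us e a b) * (x i)⁻¹ = ρ (h.us e (a - 1) b)) : False := by
  have hpg : IsPGroup p ((h.ug he).map ρ) := by
    rintro ⟨_, s, ⟨a, b, rfl⟩, rfl⟩
    refine ⟨1, Subtype.ext ?_⟩
    show (ρ (h.us e a b)) ^ p ^ 1 = 1
    rw [pow_one, ← map_pow, h.us_pow he, CharP.cast_eq_zero, zero_mul, zero_mul, h.us_zero he, map_one]
  refine not_cov_ab E.env hn hx hc hcov (U := (h.ug he).map ρ) ?_ ?_ ?_ (us_ne_one E h he0 he) ?_
  · rintro i _ ⟨_, ⟨a, b, rfl⟩, rfl⟩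
    obtain ⟨a', b', h3⟩ := h1 i a b
    rw [h3]
    exact ⟨_, ⟨a', b', rfl⟩, rfl⟩
  · rintro _ ⟨_, ⟨a, b, rfl⟩, rfl⟩ _ ⟨_, ⟨a', b', rfl⟩, rfl⟩
    rw [← map_mul, ← map_mul, h.us_mul he, h.us_mul he, add_comm a, add_comm b]
  · intro i
    obtain ⟨k, hk⟩ := IsPGroup.iff_card.1 hpg
    rw [hk]
    exact (hco i).pow_right k
  · intro i
    obtain ⟨a, b, h3⟩ := h2 i
    have h4 : ρ (h.us e 1 0) = ρ (h.us e a b) * x i * (ρ (h.us e a b))⁻¹ * (x i)⁻¹ := by
      have h5 : ρ (h.us e a b) * x i * (ρ (h.us e a b))⁻¹ * (x i)⁻¹ =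
          ρ (h.us e a b) * (x i * ρ (h.us e a b) * (x i)⁻¹)⁻¹ := by group
      rw [h5, h3, ← map_inv, ← map_mul, h.us_inv he, h.us_mul he]
      congr 2 <;> ring
    rw [h4]
    exact mem_cmm ⟨_, ⟨a, b, rfl⟩, rfl⟩

/-- conjugation by a member in `K` -/
theorem conj_K {i : ι} (hM : Lf ρ (x i) (M i)) (h : Hm B θ δ) {a b : F} (hb : b ≠ 0)
    (hab : ∀ v, M i v = a • v + b • θ v) (s : Sp B) :
    x i * ρ s * (x i)⁻¹ = ρ (SS.cj (h.ks a b (h.norm_ne (Or.inr hb))) s) := by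
  rw [hM s, cj_of_eq (L := h.ks a b (h.norm_ne (Or.inr hb))) hab]

/-- a member in `K` is not in `F` -/
theorem b_ne (E : SpEnv Ω N ρ) {i : ι} (hM : Lf ρ (x i) (M i)) (hne : x i ≠ 1) {a b : F}
    (hab : ∀ v, M i v = a • v + b • θ v) : b ≠ 0 := by
  rintro rfl
  have h1 : ∀ v, M i v = a • v := fun v => by rw [hab, zero_smul, add_zero]
  apply hne
  rw [E.eq_one_iff hM]
  refine ⟨a, ?_, h1⟩
  rintro rfl
  have := E.dim
  have : Nontrivial V := Module.nontrivial_of_finrank_pos (R := F) (by omega)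
  obtain ⟨w, hw⟩ := exists_ne (0 : V)
  apply hw
  apply (M i).injective
  rw [h1, zero_smul, SS.map_zero]

/-- an isometric lift of order `p` -/
theorem exists_unip (E : SpEnv Ω N ρ) {p : ℕ} [Fact p.Prime] [CharP F p] {i : ι} (hM : Lf ρ (x i) (M i))
    (hl : (M i).IsLin) (hxp : x i ^ p = 1) (hcm : ∀ v, M i (θ v) = θ (M i v)) :
    ∃ t : Sp B, x i = ρ t ∧ t ^ p = 1 ∧ t ∈ Hm.CT B θ := by
  have hdim := E.dim
  have : Nontrivial V := Module.nontrivial_of_finrank_pos (R := F) (by omega)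
  obtain ⟨a, ha, hMp⟩ := E.pow_scal hM hxp
  -- `a = d ^ p`
  obtain ⟨d, hd⟩ : ∃ d : F, d ^ p = a := by
    have h1 : Function.Bijective (frobenius F p) := by
      have := Fintype.ofFinite F
      exact (Finite.injective_iff_bijective).1 (frobenius_inj F p)
    obtain ⟨d, hd⟩ := h1.2 a
    exact ⟨d, hd⟩
  have hd0 : d ≠ 0 := by
    rintro rfl
    apply ha
    rw [← hd, zero_pow (Fact.out : p.Prime).ne_zero]
  -- the multiplier is `d ^ 2`
  have hlp : ∀ n : ℕ, ∀ u v, B ((M i)^[n] u) ((M i)^[n] v) = (M i).l ^ n * B u v := by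
    intro n
    induction n with
    | zero => intro u v; simp
    | succ n ih =>
      intro u v
      rw [Function.iterate_succ_apply, Function.iterate_succ_apply, ih, hl.form, pow_succ]
      ring
  have hl2 : (M i).l = d * d := by
    apply frobenius_inj F p
    show (M i).l ^ p = (d * d) ^ p
    obtain ⟨w, hw⟩ := exists_ne (0 : V)
    obtain ⟨y, hy⟩ := E.form.exists_one hw
    have h1 := hlp p w y
    rw [hMp, hMp, map_smul, map_smul, LinearMap.smul_apply, hy, smul_eq_mul, smul_eq_mul, mul_one, mul_one] at h1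
    rw [← h1, mul_pow, hd]
  let t : Sp B := ⟨(LinearEquiv.smulOfUnit (Units.mk0 d⁻¹ (inv_ne_zero hd0)) : V ≃ₗ[F] V) * hl.lin, fun u v => by
    show B (d⁻¹ • M i u) (d⁻¹ • M i v) = B u v
    rw [map_smul, map_smul, LinearMap.smul_apply, hl.form, hl2, smul_eq_mul, smul_eq_mul]
    field_simp⟩
  have ht : ∀ v, t.1 v = d⁻¹ • M i v := fun v => rfl
  refine ⟨t, E.eq_of_lf hM hd0 fun v => ?_, ?_, fun v => ?_⟩
  · rw [ht, smul_smul, mul_inv_cancel₀ hd0, one_smul]
  · have h1 : ∀ n : ℕ, ∀ v, (t ^ n).1 v = (d⁻¹) ^ n • (M i)^[n] v := by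
      intro n
      induction n with
      | zero => intro v; show v = _; simp
      | succ n ih =>
        intro v
        rw [pow_succ]
        show (t ^ n).1 (t.1 v) = _
        rw [ih, ht, Function.iterate_succ_apply]
        have h2 : ∀ m : ℕ, ∀ (c : F) (w : V), (M i)^[m] (c • w) = c • (M i)^[m] w := by
          intro m
          induction m with
          | zero => intro c w; rfl
          | succ m ihm => intro c w; rw [Function.iterate_succ_apply, hl.map_smul, ihm, Function.iterate_succ_apply]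
        rw [h2, smul_smul, pow_succ]
    apply Subtype.ext
    apply LinearEquiv.ext
    intro v
    rw [h1, hMp, smul_smul, ← hd, inv_pow, inv_mul_cancel₀ (pow_ne_zero p hd0), one_smul]
    rfl
  · rw [ht, ht, hcm, map_smul]

/-- the elements which may replace `x i0` -/
def Rep (ρ : ↥(Sp B) →* G) (x : ι → G) (i0 : ι) : Subgroup (Sp B) :=
  (Subgroup.closure {z | ∃ c : G, (∀ j, j ≠ i0 → c * x j = x j * c) ∧ z = c * x i0 * c⁻¹}).comap ρ

theorem rep_conj {i0 : ι} {s : Sp B} (hs : ∀ j, j ≠ i0 → ρ s * x j = x j * ρ s) {y : Sp B} (hy : y ∈ Rep ρ x i0) :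
    s * y * s⁻¹ ∈ Rep ρ x i0 := by
  show ρ (s * y * s⁻¹) ∈ Subgroup.closure _
  rw [map_mul, map_mul, map_inv]
  have h1 : Subgroup.closure {z | ∃ c : G, (∀ j, j ≠ i0 → c * x j = x j * c) ∧ z = c * x i0 * c⁻¹} ≤
      (Subgroup.closure {z | ∃ c : G, (∀ j, j ≠ i0 → c * x j = x j * c) ∧ z = c * x i0 * c⁻¹}).comap
        (MulAut.conj (ρ s)).toMonoidHom := by
    rw [Subgroup.closure_le]
    rintro _ ⟨c, hc, rfl⟩
    apply Subgroup.subset_closure
    refine ⟨ρ s * c, fun j hj => ?_, ?_⟩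
    · rw [mul_assoc, hc j hj, ← mul_assoc, hs j hj, mul_assoc]
    · show ρ s * (c * x i0 * c⁻¹) * (ρ s)⁻¹ = _
      group
  exact h1 hy

/-! ### The central involution of the hyperbolic plane -/

section inv

variable {e f : V}

theorem J_sub_mem (h : Hm B θ δ) (hp : Hyp B θ e f) {c : F} (hc : c ≠ 0) (v : V) :
    (hp.J h (dg c hc)).1 v - v ∈ Submodule.span F {e, f, θ e, θ f} := by
  have he : e ∈ Submodule.span F {e, f, θ e, θ f} := Submodule.subset_span (by simp)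
  have hf : f ∈ Submodule.span F {e, f, θ e, θ f} := Submodule.subset_span (by simp)
  have hte : θ e ∈ Submodule.span F {e, f, θ e, θ f} := Submodule.subset_span (by simp)
  have htf : θ f ∈ Submodule.span F {e, f, θ e, θ f} := Submodule.subset_span (by simp)
  have h1 : (hp.J h (dg c hc)).1 v = (hj h.form hp.n1 (dg c hc)).1 ((hj h.form (hp.n2 h) (dg c hc)).1 v) := rfl
  rw [h1, hj_dg, hj_dg]
  set w := v + ((c - 1) * ((B (θ e) (θ f))⁻¹ * B v (θ f))) • θ e +
    ((c⁻¹ - 1) * ((B (θ e) (θ f))⁻¹ * B (θ e) v)) • θ f with hw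
  have h2 : w + ((c - 1) * ((B e f)⁻¹ * B w f)) • e + ((c⁻¹ - 1) * ((B e f)⁻¹ * B e w)) • f - v =
      ((c - 1) * ((B (θ e) (θ f))⁻¹ * B v (θ f))) • θ e + ((c⁻¹ - 1) * ((B (θ e) (θ f))⁻¹ * B (θ e) v)) • θ f +
      ((c - 1) * ((B e f)⁻¹ * B w f)) • e + ((c⁻¹ - 1) * ((B e f)⁻¹ * B e w)) • f := by
    rw [hw]; abel
  rw [h2]
  exact Submodule.add_mem _ (Submodule.add_mem _ (Submodule.add_mem _ (Submodule.smul_mem _ _ hte)
    (Submodule.smul_mem _ _ htf)) (Submodule.smul_mem _ _ he)) (Submodule.smul_mem _ _ hf)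

theorem J_neg_ne (E : SpEnv Ω N ρ) (h : Hm B θ δ) (hp : Hyp B θ e f) (h4 : finrank F V ≠ 4)
    (hc : (-1 : F) ≠ 0) : ρ (hp.J h (dg (-1) hc)) ≠ 1 := by
  classical
  intro h1
  obtain ⟨a, ha⟩ := (E.ker _).1 h1
  have he0 : e ≠ 0 := by
    rintro rfl
    have := hp.ef
    rw [map_zero, LinearMap.zero_apply] at this
    exact zero_ne_one this
  have ha1 : a = -1 := by
    have h2 := ha e
    rw [hp.J_dg h hc] at h2
    have h3 : (a - (-1)) • e = 0 := by rw [sub_smul, ← h2, sub_self]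
    exact sub_eq_zero.1 ((smul_eq_zero.1 h3).resolve_right he0)
  have htop : Submodule.span F {e, f, θ e, θ f} = ⊤ := by
    rw [eq_top_iff]
    intro v _
    have h2 := J_sub_mem h hp hc v
    rw [ha, ha1] at h2
    have h3 : v = (-(2 : F)⁻¹) • ((-1 : F) • v - v) := by
      have h5 : (-1 : F) • v - v = (-(2 : F)) • v := by module
      rw [h5, smul_smul, neg_mul_neg, inv_mul_cancel₀ h.two, one_smul]
    rw [h3]
    exact Submodule.smul_mem _ _ h2
  have h5 : finrank F (Submodule.span F (({e, f, θ e, θ f} : Finset V) : Set V)) ≤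
      ({e, f, θ e, θ f} : Finset V).card := finrank_span_finset_le_card _
  have h6 : ((({e, f, θ e, θ f} : Finset V) : Set V)) = {e, f, θ e, θ f} := by simp
  rw [h6, htop, finrank_top] at h5
  have h7 := Finset.card_le_four (a := e) (b := f) (c := θ e) (d := θ f)
  have := E.dim
  omega

end inv

/-- matrices over the field with three elements -/
theorem three_mem {c : F} (h3 : (3 : F) = 0) (hc : c = 1 ∨ c = -1) (h1 : (-1 : F) ≠ 0)
    {Nn : Subgroup (SpecialLinearGroup (Fin 2) F)} (hg : up (-1) * lo c ∈ Nn) : dg (-1) h1 ∈ Nn := by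
  rcases hc with rfl | rfl
  · have h2 : (up (-1) * lo (1 : F)) * (up (-1) * lo 1) * (up (-1) * lo 1) = dg (-1) h1 := by
      apply Subtype.ext
      show (!![(1 : F), -1; 0, 1] * !![1, 0; 1, 1]) * (!![1, -1; 0, 1] * !![1, 0; 1, 1]) *
        (!![1, -1; 0, 1] * !![1, 0; 1, 1]) = !![-1, 0; 0, (-1)⁻¹]
      simp only [Matrix.mul_fin_two]
      norm_num
    rw [← h2]
    exact Nn.mul_mem (Nn.mul_mem hg hg) hg
  · have h2 : (up (-1) * lo (-1 : F)) * (up (-1) * lo (-1)) = dg (-1) h1 := by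
      apply Subtype.ext
      show (!![(1 : F), -1; 0, 1] * !![1, 0; -1, 1]) * (!![1, -1; 0, 1] * !![1, 0; -1, 1]) = !![-1, 0; 0, (-1)⁻¹]
      have e1 : (5 : F) = -1 := by linear_combination 2 * h3
      have e2 : (2 : F) = -1 := by linear_combination h3
      simp only [Matrix.mul_fin_two]
      norm_num
      refine ⟨⟨e1, h3⟩, h3, e2⟩
    rw [← h2]
    exact Nn.mul_mem hg hg

end Cfsg.Agent.H834.RC
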